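import Mathlib
import Cfsg.Agent.Lib.Helper2.CharGal
import Cfsg.Agent.Lib.Helper2.CharReg
import Cfsg.Agent.Lib.Helper7.CharComplete

set_option autoImplicit false

namespace Cfsg.Agent.Lib.Helper11

open Cfsg Cfsg.Agent.Lib.Helper7
open Cfsg.Agent.Lib.Helper2 (cycField zetaN zetaN_isPrimitiveRoot zetaN_mem)
open scoped ComplexConjugate IntermediateField

/-- The embedding of the `N`-th cyclotomic field raising roots of unity to the `m`-th power. -/
theorem exists_embedding_pow {N : ℕ} (hN : N ≠ 0) {m : ℕ} (hm : m.Coprime N) :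
    ∃ σ : cycField N →ₐ[ℚ] ℂ, ∀ z : cycField N, (z : ℂ) ^ N = 1 → σ z = (z : ℂ) ^ m := by
  have : NeZero N := ⟨hN⟩
  have hζ := zetaN_isPrimitiveRoot N hN
  have hint : IsIntegral ℚ (zetaN N) := by
    refine IsIntegral.of_pow (Nat.pos_of_ne_zero hN) ?_
    rw [hζ.pow_eq_one]
    exact isIntegral_one
  let pb := IntermediateField.adjoin.powerBasis hint
  change ∃ σ : ℚ⟮zetaN N⟯ →ₐ[ℚ] ℂ, ∀ z : ℚ⟮zetaN N⟯, (z : ℂ) ^ N = 1 → σ z = (z : ℂ) ^ m
  obtain ⟨τ, hτ⟩ : ∃ τ : ℚ⟮zetaN N⟯ →+* ℂ,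
      τ (IntermediateField.AdjoinSimple.gen ℚ (zetaN N)) = zetaN N ^ m := by
    refine ⟨(pb.lift (zetaN N ^ m) ?_).toRingHom, ?_⟩
    · rw [IntermediateField.adjoin.powerBasis_gen, IntermediateField.minpoly_gen,
        ← Polynomial.cyclotomic_eq_minpoly_rat hζ (Nat.pos_of_ne_zero hN)]
      have h1 : (Polynomial.cyclotomic N ℂ).IsRoot (zetaN N ^ m) :=
        Polynomial.isRoot_cyclotomic_iff.mpr (hζ.pow_of_coprime m hm)
      rw [Polynomial.aeval_def, ← Polynomial.eval_map, Polynomial.map_cyclotomic]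
      exact Polynomial.IsRoot.def.mp h1
    · have hgen : IntermediateField.AdjoinSimple.gen ℚ (zetaN N) = pb.gen :=
        (IntermediateField.adjoin.powerBasis_gen hint).symm
      exact (congrArg _ hgen).trans (pb.lift_gen (zetaN N ^ m) _)
  obtain ⟨σ, hσ⟩ : ∃ σ : ℚ⟮zetaN N⟯ →ₐ[ℚ] ℂ,
      σ (IntermediateField.AdjoinSimple.gen ℚ (zetaN N)) = zetaN N ^ m :=
    ⟨τ.toRatAlgHom, hτ⟩
  refine ⟨σ, ?_⟩
  intro z hz
  obtain ⟨i, -, hi⟩ := hζ.eq_pow_of_pow_eq_one hz
  have hz' : z = (IntermediateField.AdjoinSimple.gen ℚ (zetaN N)) ^ i := by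
    apply Subtype.ext
    rw [← hi]
    simp
  rw [← hi, hz', map_pow, hσ, ← pow_mul, ← pow_mul, mul_comm]

variable {G : Type*} [Group G]

theorem embedding_char_pow [Finite G] {m : ℕ} (σ : cycField (Nat.card G) →ₐ[ℚ] ℂ)
    (hσ : ∀ z : cycField (Nat.card G), (z : ℂ) ^ (Nat.card G) = 1 → σ z = (z : ℂ) ^ m)
    {χ : G → ℂ} (hχ : IsCharacter G χ) (g : G) (z : cycField (Nat.card G))
    (hz : (z : ℂ) = χ g) : σ z = χ (g ^ m) := by
  obtain ⟨n, ρ, rfl⟩ := hχ
  obtain ⟨ι, hι, b, μ, h1, h2, h3, -⟩ := Cfsg.Agent.Lib.Helper2.exists_rep_eigenbasis ρ g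
  have hpow : ∀ i, μ i ^ Nat.card G = 1 := by
    intro i
    obtain ⟨c, hc⟩ := orderOf_dvd_natCard g
    rw [hc, pow_mul, h2, one_pow]
  rw [Representation.character, Cfsg.Agent.Lib.Helper2.trace_of_diag b _ _ h1] at hz
  rw [Representation.character, Cfsg.Agent.Lib.Helper2.trace_of_diag b _ _ (h3 m)]
  have hz' : z = ∑ i, (⟨μ i, Cfsg.Agent.Lib.Helper2.mem_cycField_of_pow_eq_one Nat.card_pos.ne'
      (hpow i)⟩ : cycField (Nat.card G)) := by
    apply Subtype.ext
    rw [hz]
    simp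
  rw [hz', map_sum]
  exact Finset.sum_congr rfl fun i _ => hσ _ (hpow i)

theorem isIrrCharacter_pow_coprime [Finite G] {χ : G → ℂ} (hχ : IsIrrCharacter G χ) {m : ℕ}
    (hm : m.Coprime (Nat.card G)) : IsIrrCharacter G (fun g => χ (g ^ m)) := by
  classical
  cases nonempty_fintype G
  have hN : (Nat.card G : ℂ) ≠ 0 := by exact_mod_cast Nat.card_pos.ne'
  have hχc := isCharacter_of_irr hχ
  have hχ1 := irr_apply_one_ne_zero hχ
  obtain ⟨σ, hσ⟩ := exists_embedding_pow (N := Nat.card G) Nat.card_pos.ne' hm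
  set f : G → ℂ := fun g => χ (g ^ m) with hf
  have hfcl : IsClassFunction G f := by
    intro g h
    simp only [hf, conj_pow]
    exact isClassFunction_of_isCharacter hχc _ _
  have hf1 : f 1 = χ 1 := by simp [hf]
  -- functional equation
  have hfe : ∀ g y : G, (∑ x : G, f (x * g * x⁻¹ * y)) * χ 1 = (Nat.card G : ℂ) * f g * f y := by
    intro g y
    have h0 := Cfsg.Agent.Lib.Helper2.sum_char_conj_mul hχ g y
    have h1 : (∑ x : G, χ (x * g * x⁻¹ * y)) * χ 1 = (Nat.card G : ℂ) * χ g * χ y := by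
      rw [h0]; field_simp
    let c : G → cycField (Nat.card G) := fun h =>
      ⟨χ h, Cfsg.Agent.Lib.Helper2.char_mem_cycField hχc h⟩
    have h2 : (∑ x : G, c (x * g * x⁻¹ * y)) * c 1 = (Nat.card G : cycField (Nat.card G)) * c g * c y := by
      apply Subtype.ext
      simpa [c] using h1
    have h3 := congrArg σ h2
    simp only [map_mul, map_sum, map_natCast] at h3
    have hc : ∀ h, σ (c h) = f h := fun h => embedding_char_pow σ hσ hχc h (c h) rfl
    simp only [hc, hf1] at h3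
    exact h3
  -- a constituent
  obtain ⟨ψ, hψ, hcψ⟩ : ∃ ψ : G → ℂ, IsIrrCharacter G ψ ∧ classInner f ψ ≠ 0 := by
    by_contra hcon
    push Not at hcon
    have := eq_zero_of_classInner_irr_eq_zero hfcl hcon
    apply hχ1
    rw [← hf1, this]; rfl
  have hψc := isCharacter_of_irr hψ
  have hψ1 := irr_apply_one_ne_zero hψ
  -- proportionality
  have hprop : ∀ g, f g * ψ 1 = ψ g * χ 1 := by
    intro g
    have hA : classInner (fun y => ∑ x : G, f (x * g * x⁻¹ * y)) ψ * χ 1 =
        (Nat.card G : ℂ) * f g * classInner f ψ := by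
      have : (fun y => ∑ x : G, f (x * g * x⁻¹ * y)) = ((Nat.card G : ℂ) * f g / χ 1) • f := by
        ext y
        have := hfe g y
        simp only [Pi.smul_apply, smul_eq_mul]
        field_simp
        linear_combination this
      rw [this, classInner_smul_left]
      field_simp
    have hB : classInner (fun y => ∑ x : G, f (x * g * x⁻¹ * y)) ψ * ψ 1 =
        (Nat.card G : ℂ) * ψ g * classInner f ψ := by
      unfold classInner
      have e1 : ∑ y : G, (∑ x : G, f (x * g * x⁻¹ * y)) * conj (ψ y) =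
          ∑ y : G, f y * conj (∑ x : G, ψ (x * g⁻¹ * x⁻¹ * y)) := by
        simp only [Finset.sum_mul, map_sum, Finset.mul_sum]
        rw [Finset.sum_comm]
        conv_rhs => rw [Finset.sum_comm]
        refine Finset.sum_congr rfl fun x _ => ?_
        rw [← Equiv.sum_comp (Equiv.mulLeft (x * g * x⁻¹))
          (fun y => f y * conj (ψ (x * g⁻¹ * x⁻¹ * y)))]
        refine Finset.sum_congr rfl fun y _ => ?_
        simp only [Equiv.coe_mulLeft]
        congr 3
        group
      rw [e1]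
      have e2 : ∀ y, conj (∑ x : G, ψ (x * g⁻¹ * x⁻¹ * y)) =
          (Nat.card G : ℂ) * ψ g * conj (ψ y) / ψ 1 := by
        intro y
        rw [Cfsg.Agent.Lib.Helper2.sum_char_conj_mul hψ g⁻¹ y, char_inv_eq_conj hψc g]
        obtain ⟨n, hn⟩ := isCharacter_apply_one hψc
        simp [hn]
      simp only [e2]
      rw [Finset.mul_sum, Finset.mul_sum, Finset.mul_sum, Finset.sum_mul]
      refine Finset.sum_congr rfl fun y _ => ?_
      field_simp
    have hC : (Nat.card G : ℂ) * classInner f ψ * (f g * ψ 1 - ψ g * χ 1) = 0 := by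
      linear_combination χ 1 * hB - ψ 1 * hA
    have := (mul_eq_zero.mp hC).resolve_left (mul_ne_zero hN hcψ)
    linear_combination this
  -- norm
  have hnorm : classInner f f = 1 := by
    rw [← classInner_irr_self hχ]
    unfold classInner
    congr 1
    exact Equiv.sum_comp (powCoprime hm.symm) (fun h => χ h * conj (χ h))
  obtain ⟨n₁, hn₁⟩ := isCharacter_apply_one hχc
  obtain ⟨n₂, hn₂⟩ := isCharacter_apply_one hψc
  have hfψ : f = ((n₁ : ℂ) / n₂) • ψ := by
    ext g
    have := hprop g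
    rw [hn₁, hn₂] at this
    rw [hn₂] at hψ1
    simp only [Pi.smul_apply, smul_eq_mul]
    field_simp
    linear_combination this
  rw [hfψ, classInner_smul_left, classInner_smul_right, classInner_irr_self hψ] at hnorm
  rw [hn₁] at hχ1
  rw [hn₂] at hψ1
  have h12 : n₁ = n₂ := by
    simp only [map_div₀, map_natCast, mul_one] at hnorm
    field_simp at hnorm
    have : n₁ ^ 2 = n₂ ^ 2 := by exact_mod_cast hnorm
    exact Nat.pow_left_injective (n := 2) (by norm_num) this
  rw [hfψ, h12, div_self hψ1, one_smul]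
  exact hψ

theorem isCharacter_pow_coprime [Finite G] {χ : G → ℂ} (hχ : IsCharacter G χ) {m : ℕ}
    (hm : m.Coprime (Nat.card G)) : IsCharacter G (fun g => χ (g ^ m)) := by
  revert χ
  apply isCharacter_induction
  · exact isCharacter_zero
  · intro χ ψ hχ _ hψ
    exact isCharacter_add (isCharacter_of_irr (isIrrCharacter_pow_coprime hχ hm)) hψ

end Cfsg.Agent.Lib.Helper11
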