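import Cfsg.Agent.Lib.Helper7.CharComplete

set_option autoImplicit false
open Cfsg
open scoped ComplexConjugate

namespace Cfsg.Agent.Lib.Helper11

open Cfsg.Agent.Lib.Helper7

universe u
variable {G : Type u} [Group G]

theorem genChar_of_char {χ : G → ℂ} (h : IsCharacter G χ) : IsGeneralizedCharacter G χ :=
  ⟨χ, 0, h, isCharacter_zero, by simp⟩

theorem genChar_of_irr {χ : G → ℂ} (h : IsIrrCharacter G χ) : IsGeneralizedCharacter G χ :=
  genChar_of_char (isCharacter_of_irr h)

theorem genChar_zero : IsGeneralizedCharacter G (0 : G → ℂ) := genChar_of_char isCharacter_zero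

theorem genChar_neg {θ : G → ℂ} (h : IsGeneralizedCharacter G θ) : IsGeneralizedCharacter G (-θ) := by
  obtain ⟨a, b, ha, hb, rfl⟩ := h
  exact ⟨b, a, hb, ha, by simp⟩

theorem genChar_add {θ η : G → ℂ} (h : IsGeneralizedCharacter G θ) (h' : IsGeneralizedCharacter G η) :
    IsGeneralizedCharacter G (θ + η) := by
  obtain ⟨a, b, ha, hb, rfl⟩ := h
  obtain ⟨c, d, hc, hd, rfl⟩ := h'
  exact ⟨a + c, b + d, isCharacter_add ha hc, isCharacter_add hb hd, by abel⟩

theorem genChar_sub {θ η : G → ℂ} (h : IsGeneralizedCharacter G θ) (h' : IsGeneralizedCharacter G η) :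
    IsGeneralizedCharacter G (θ - η) := by
  rw [sub_eq_add_neg]
  exact genChar_add h (genChar_neg h')

theorem genChar_nsmul {θ : G → ℂ} (h : IsGeneralizedCharacter G θ) (n : ℕ) :
    IsGeneralizedCharacter G (n • θ) := by
  induction n with
  | zero => simpa using genChar_zero
  | succ n ih => rw [succ_nsmul]; exact genChar_add ih h

theorem genChar_zsmul {θ : G → ℂ} (h : IsGeneralizedCharacter G θ) (n : ℤ) :
    IsGeneralizedCharacter G (n • θ) := by
  cases n with
  | ofNat n => simpa using genChar_nsmul h n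
  | negSucc n =>
    rw [negSucc_zsmul]
    exact genChar_neg (genChar_nsmul h (n + 1))

theorem genChar_sum {ι : Type*} (s : Finset ι) (f : ι → G → ℂ)
    (h : ∀ i ∈ s, IsGeneralizedCharacter G (f i)) : IsGeneralizedCharacter G (∑ i ∈ s, f i) := by
  classical
  induction s using Finset.induction_on with
  | empty => simpa using genChar_zero
  | insert a s ha ih =>
    rw [Finset.sum_insert ha]
    exact genChar_add (h a (Finset.mem_insert_self _ _))
      (ih (fun i hi => h i (Finset.mem_insert_of_mem hi)))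

theorem genChar_isClassFunction {θ : G → ℂ} (h : IsGeneralizedCharacter G θ) : IsClassFunction G θ := by
  obtain ⟨a, b, ha, hb, rfl⟩ := h
  intro g x
  simp only [Pi.sub_apply]
  rw [isClassFunction_of_isCharacter ha g x, isClassFunction_of_isCharacter hb g x]

section inner
variable [Fintype G]

theorem genChar_inner_char_int {θ χ : G → ℂ} (h : IsGeneralizedCharacter G θ) (hχ : IsCharacter G χ) :
    ∃ n : ℤ, classInner θ χ = n := by
  obtain ⟨a, b, ha, hb, rfl⟩ := h
  obtain ⟨n, hn⟩ := classInner_char_nat ha hχ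
  obtain ⟨m, hm⟩ := classInner_char_nat hb hχ
  refine ⟨(n : ℤ) - m, ?_⟩
  rw [classInner_sub_left, hn, hm]
  push_cast
  ring

theorem genChar_inner_int {θ η : G → ℂ} (h : IsGeneralizedCharacter G θ)
    (h' : IsGeneralizedCharacter G η) : ∃ n : ℤ, classInner θ η = n := by
  obtain ⟨c, d, hc, hd, rfl⟩ := h'
  obtain ⟨n, hn⟩ := genChar_inner_char_int h hc
  obtain ⟨m, hm⟩ := genChar_inner_char_int h hd
  refine ⟨n - m, ?_⟩
  rw [classInner_sub_right, hn, hm]
  push_cast
  ring

/-- coefficients of a generalized character -/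
theorem genChar_eq_sum [Fintype (IrrCharacter G)] {θ : G → ℂ} (h : IsGeneralizedCharacter G θ) :
    ∃ m : IrrCharacter G → ℤ, (∀ χ : IrrCharacter G, classInner θ (χ : G → ℂ) = m χ) ∧
      θ = ∑ χ : IrrCharacter G, m χ • (χ : G → ℂ) := by
  choose m hm using fun χ : IrrCharacter G => genChar_inner_char_int h (isCharacter_of_irr χ.2)
  refine ⟨m, hm, ?_⟩
  conv_lhs => rw [classFunction_eq_sum (genChar_isClassFunction h)]
  apply Finset.sum_congr rfl
  intro χ _
  rw [hm χ, Int.cast_smul_eq_zsmul]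

theorem genChar_inner_eq_sum [Fintype (IrrCharacter G)] {θ η : G → ℂ} (h : IsGeneralizedCharacter G θ)
    (m m' : IrrCharacter G → ℤ) (hm : ∀ χ : IrrCharacter G, classInner θ (χ : G → ℂ) = m χ)
    (hm' : ∀ χ : IrrCharacter G, classInner η (χ : G → ℂ) = m' χ) :
    classInner θ η = ((∑ χ : IrrCharacter G, m χ * m' χ : ℤ) : ℂ) := by
  rw [classInner_eq_sum (genChar_isClassFunction h)]
  push_cast
  apply Finset.sum_congr rfl
  intro χ _
  rw [hm, hm']
  simp

theorem classInner_neg_left (a b : G → ℂ) : classInner (-a) b = - classInner a b := by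
  have := classInner_smul_left (-1 : ℂ) a b
  simpa using this

theorem classInner_neg_right (a b : G → ℂ) : classInner a (-b) = - classInner a b := by
  have := classInner_smul_right (-1 : ℂ) a b
  simpa using this

theorem classInner_zsmul_left (n : ℤ) (a b : G → ℂ) : classInner (n • a) b = n * classInner a b := by
  rw [← Int.cast_smul_eq_zsmul ℂ, classInner_smul_left]

theorem classInner_zsmul_right (n : ℤ) (a b : G → ℂ) : classInner a (n • b) = n * classInner a b := by
  rw [← Int.cast_smul_eq_zsmul ℂ, classInner_smul_right]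
  simp

end inner

/-- integer vectors of norm one -/
theorem sq_sum_eq_one {ι : Type*} [Fintype ι] [DecidableEq ι] (m : ι → ℤ) (h : ∑ i, m i * m i = 1) :
    ∃ i, (m i = 1 ∨ m i = -1) ∧ ∀ j, j ≠ i → m j = 0 := by
  have hex : ∃ i, m i ≠ 0 := by
    by_contra hcon
    push_neg at hcon
    simp [hcon] at h
  obtain ⟨i, hi⟩ := hex
  have hsplit := Finset.add_sum_erase Finset.univ (fun i => m i * m i) (Finset.mem_univ i)
  have hnn : ∀ j ∈ Finset.univ.erase i, 0 ≤ m j * m j := fun j _ => mul_self_nonneg _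
  have hrest : 0 ≤ ∑ j ∈ Finset.univ.erase i, m j * m j := Finset.sum_nonneg hnn
  have hpos : 1 ≤ m i * m i := by
    have := mul_self_pos.mpr hi
    omega
  have h1 : m i * m i = 1 := by omega
  have h0 : ∑ j ∈ Finset.univ.erase i, m j * m j = 0 := by omega
  refine ⟨i, ?_, ?_⟩
  · exact mul_self_eq_one_iff.mp h1
  · intro j hj
    have := (Finset.sum_eq_zero_iff_of_nonneg hnn).mp h0 j (Finset.mem_erase.mpr ⟨hj, Finset.mem_univ j⟩)
    exact mul_self_eq_zero.mp this

/-- integer vectors of norm two -/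
theorem sq_sum_eq_two {ι : Type*} [Fintype ι] [DecidableEq ι] (m : ι → ℤ) (h : ∑ i, m i * m i = 2) :
    ∃ i k, i ≠ k ∧ (m i = 1 ∨ m i = -1) ∧ (m k = 1 ∨ m k = -1) ∧ ∀ j, j ≠ i → j ≠ k → m j = 0 := by
  have hex : ∃ i, m i ≠ 0 := by
    by_contra hcon
    push_neg at hcon
    simp [hcon] at h
  obtain ⟨i, hi⟩ := hex
  have hsplit := Finset.add_sum_erase Finset.univ (fun i => m i * m i) (Finset.mem_univ i)
  have hnn : ∀ j ∈ Finset.univ.erase i, 0 ≤ m j * m j := fun j _ => mul_self_nonneg _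
  have hrest : 0 ≤ ∑ j ∈ Finset.univ.erase i, m j * m j := Finset.sum_nonneg hnn
  have hle : m i * m i ≤ 2 := by omega
  have h1 : m i = 1 ∨ m i = -1 := by
    have hb1 : m i ≤ 1 := by nlinarith
    have hb2 : -1 ≤ m i := by nlinarith
    omega
  have h1' : m i * m i = 1 := by rcases h1 with h1 | h1 <;> rw [h1] <;> norm_num
  have h0 : ∑ j ∈ Finset.univ.erase i, m j * m j = 1 := by omega
  have hex2 : ∃ k ∈ Finset.univ.erase i, m k ≠ 0 := by
    by_contra hcon
    push_neg at hcon
    rw [Finset.sum_eq_zero (fun j hj => by rw [hcon j hj]; ring)] at h0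
    omega
  obtain ⟨k, hk, hk0⟩ := hex2
  have hsplit2 := Finset.add_sum_erase (Finset.univ.erase i) (fun i => m i * m i) hk
  have hnn2 : ∀ j ∈ (Finset.univ.erase i).erase k, 0 ≤ m j * m j := fun j _ => mul_self_nonneg _
  have hrest2 : 0 ≤ ∑ j ∈ (Finset.univ.erase i).erase k, m j * m j := Finset.sum_nonneg hnn2
  have hpos : 1 ≤ m k * m k := by
    have := mul_self_pos.mpr hk0
    omega
  have h2 : m k * m k = 1 := by omega
  have h3 : ∑ j ∈ (Finset.univ.erase i).erase k, m j * m j = 0 := by omega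
  refine ⟨i, k, (Finset.ne_of_mem_erase hk).symm, h1, mul_self_eq_one_iff.mp h2, ?_⟩
  intro j hji hjk
  have := (Finset.sum_eq_zero_iff_of_nonneg hnn2).mp h3 j
    (Finset.mem_erase.mpr ⟨hjk, Finset.mem_erase.mpr ⟨hji, Finset.mem_univ j⟩⟩)
  exact mul_self_eq_zero.mp this

section norm
variable [Fintype G]

/-- a generalized character of norm one is plus or minus an irreducible character -/
theorem genChar_norm_one {θ : G → ℂ} (h : IsGeneralizedCharacter G θ) (h1 : classInner θ θ = 1) :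
    IsIrrCharacter G θ ∨ IsIrrCharacter G (-θ) := by
  classical
  cases nonempty_fintype (IrrCharacter G)
  obtain ⟨m, hm, hθ⟩ := genChar_eq_sum h
  have hs := genChar_inner_eq_sum h m m hm hm
  rw [h1] at hs
  have hs' : ∑ χ : IrrCharacter G, m χ * m χ = 1 := by exact_mod_cast hs.symm
  obtain ⟨χ, hχ, hrest⟩ := sq_sum_eq_one m hs'
  have hθ' : θ = m χ • (χ : G → ℂ) := by
    rw [hθ]
    apply Finset.sum_eq_single χ
    · intro b _ hb
      rw [hrest b hb, zero_smul]
    · intro hc; exact absurd (Finset.mem_univ _) hc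
  rcases hχ with hχ | hχ
  · left
    rw [hθ', hχ, one_smul]; exact χ.2
  · right
    rw [hθ', hχ]
    simpa using χ.2

/-- a generalized character of norm two -/
theorem genChar_norm_two {θ : G → ℂ} (h : IsGeneralizedCharacter G θ) (h2 : classInner θ θ = 2) :
    ∃ (χ ψ : G → ℂ) (a b : ℤ), IsIrrCharacter G χ ∧ IsIrrCharacter G ψ ∧ χ ≠ ψ ∧ (a = 1 ∨ a = -1) ∧
      (b = 1 ∨ b = -1) ∧ θ = a • χ + b • ψ := by
  classical
  cases nonempty_fintype (IrrCharacter G)
  obtain ⟨m, hm, hθ⟩ := genChar_eq_sum h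
  have hs := genChar_inner_eq_sum h m m hm hm
  rw [h2] at hs
  have hs' : ∑ χ : IrrCharacter G, m χ * m χ = 2 := by exact_mod_cast hs.symm
  obtain ⟨χ, ψ, hne, hχ, hψ, hrest⟩ := sq_sum_eq_two m hs'
  refine ⟨χ, ψ, m χ, m ψ, χ.2, ψ.2, fun e => hne (Subtype.ext e), hχ, hψ, ?_⟩
  rw [hθ, ← Finset.add_sum_erase Finset.univ _ (Finset.mem_univ χ)]
  congr 1
  apply Finset.sum_eq_single ψ
  · intro b hb hbψ
    rw [hrest b (Finset.ne_of_mem_erase hb) hbψ, zero_smul]
  · intro hc
    exact absurd (Finset.mem_erase.mpr ⟨hne.symm, Finset.mem_univ _⟩) hc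

/-- a generalized character of norm two vanishing at the identity is a difference of two distinct
irreducible characters -/
theorem genChar_norm_two_vanish {θ : G → ℂ} (h : IsGeneralizedCharacter G θ)
    (h2 : classInner θ θ = 2) (h1 : θ 1 = 0) :
    ∃ (χ ψ : G → ℂ), IsIrrCharacter G χ ∧ IsIrrCharacter G ψ ∧ χ ≠ ψ ∧ θ = χ - ψ := by
  obtain ⟨χ, ψ, a, b, hχ, hψ, hne, ha, hb, rfl⟩ := genChar_norm_two h h2
  obtain ⟨n, hn, hn1⟩ := irr_apply_one hχ
  obtain ⟨k, hk, hk1⟩ := irr_apply_one hψ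
  rw [Pi.add_apply, Pi.smul_apply, Pi.smul_apply, hn1, hk1, zsmul_eq_mul, zsmul_eq_mul] at h1
  have h1' : a * (n : ℤ) + b * (k : ℤ) = 0 := by exact_mod_cast h1
  rcases ha with rfl | rfl <;> rcases hb with rfl | rfl
  · exfalso; omega
  · exact ⟨χ, ψ, hχ, hψ, hne, by simp [sub_eq_add_neg]⟩
  · exact ⟨ψ, χ, hψ, hχ, hne.symm, by simp [sub_eq_add_neg, add_comm]⟩
  · exfalso; omega

end norm

end Cfsg.Agent.Lib.Helper11
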