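import Mathlib
import Cfsg.Prelude.Def_OddOrderChar
import Cfsg.Prelude.Def_OddOrderLocal
import Cfsg.Agent.Lib.Helper7.CharBasic
import Cfsg.Agent.Lib.Helper2.CharInd

set_option autoImplicit false

namespace Cfsg.Agent.Lib.Helper11

open Cfsg Cfsg.Agent.Lib.Helper7

section General

variable {W : Type*} [Group W]

/-- A linear character as a complex valued function. -/
def homFun (f : W →* ℂˣ) : W → ℂ := fun w => (f w : ℂ)

/-- The function `(1 - φ)(1 - ψ)`. -/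
def alphaFun (φ ψ : W →* ℂˣ) : W → ℂ :=
  fun w => 1 - (φ w : ℂ) - (ψ w : ℂ) + (φ w : ℂ) * (ψ w : ℂ)

theorem homFun_injective : Function.Injective (homFun (W := W)) := by
  intro f g h
  ext w
  exact congrFun h w

theorem alphaFun_eq (φ ψ : W →* ℂˣ) :
    alphaFun φ ψ = homFun 1 - homFun φ - homFun ψ + homFun (φ * ψ) := by
  ext w; simp [alphaFun, homFun]

theorem alphaFun_apply (φ ψ : W →* ℂˣ) (w : W) :
    alphaFun φ ψ w = (1 - (φ w : ℂ)) * (1 - (ψ w : ℂ)) := by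
  simp only [alphaFun]; ring

theorem alphaFun_one_left (ψ : W →* ℂˣ) : alphaFun 1 ψ = 0 := by
  ext w; simp [alphaFun]

theorem alphaFun_one_right (φ : W →* ℂˣ) : alphaFun φ 1 = 0 := by
  ext w; simp [alphaFun]

theorem classInner_homFun [Fintype W] (f g : W →* ℂˣ) :
    classInner (homFun f) (homFun g) = if f = g then 1 else 0 := by
  have := classInner_irr (isIrrCharacter_of_hom f) (isIrrCharacter_of_hom g)
  unfold homFun
  rw [this]
  by_cases h : f = g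
  · subst h; simp
  · rw [if_neg h, if_neg]
    intro h'
    exact h (homFun_injective h')

theorem classInner_alphaFun_right [Fintype W] (f : W → ℂ) (φ ψ : W →* ℂˣ) :
    classInner f (alphaFun φ ψ) = classInner f (homFun 1) - classInner f (homFun φ)
      - classInner f (homFun ψ) + classInner f (homFun (φ * ψ)) := by
  rw [alphaFun_eq, classInner_add_right, classInner_sub_right, classInner_sub_right]

theorem classInner_alphaFun_left [Fintype W] (f : W → ℂ) (φ ψ : W →* ℂˣ) :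
    classInner (alphaFun φ ψ) f = classInner (homFun 1) f - classInner (homFun φ) f
      - classInner (homFun ψ) f + classInner (homFun (φ * ψ)) f := by
  rw [alphaFun_eq, classInner_add_left, classInner_sub_left, classInner_sub_left]

end General

section Sup

variable {G : Type*} [Group G] {W₁ W₂ : Subgroup G}

theorem exists_mul_of_mem_sup (hcomm : ∀ a ∈ W₁, ∀ b ∈ W₂, a * b = b * a) {w : G}
    (hw : w ∈ W₁ ⊔ W₂) : ∃ a ∈ W₁, ∃ b ∈ W₂, w = a * b := by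
  have hle : W₂ ≤ Subgroup.normalizer (W₁ : Set G) := by
    intro b hb
    rw [Subgroup.mem_normalizer_iff]
    intro a
    constructor
    · intro ha
      have : b * a * b⁻¹ = a := by rw [← hcomm a ha b hb]; group
      rw [this]; exact ha
    · intro ha
      have h2 := hcomm _ ha b hb
      have : a = b * a * b⁻¹ := by
        have : b * a * b⁻¹ * b = b * (b * a * b⁻¹) := h2
        have h3 : b * a = b * (b * a * b⁻¹) := by simpa using this
        exact mul_left_cancel h3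
      rw [this]; exact ha
  have := Subgroup.coe_mul_of_right_le_normalizer_left W₁ W₂ hle
  have hw' : w ∈ ((W₁ ⊔ W₂ : Subgroup G) : Set G) := hw
  rw [this] at hw'
  obtain ⟨a, ha, b, hb, rfl⟩ := Set.mem_mul.mp hw'
  exact ⟨a, ha, b, hb, rfl⟩

theorem hom_ext_sup {M : Type*} [Monoid M] (hcomm : ∀ a ∈ W₁, ∀ b ∈ W₂, a * b = b * a)
    (f g : ↥(W₁ ⊔ W₂) →* M)
    (h1 : ∀ w : ↥(W₁ ⊔ W₂), (w : G) ∈ W₁ → f w = g w)
    (h2 : ∀ w : ↥(W₁ ⊔ W₂), (w : G) ∈ W₂ → f w = g w) : f = g := by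
  ext ⟨w, hw⟩
  obtain ⟨a, ha, b, hb, rfl⟩ := exists_mul_of_mem_sup hcomm hw
  have : (⟨a * b, hw⟩ : ↥(W₁ ⊔ W₂)) =
      ⟨a, Subgroup.mem_sup_left ha⟩ * ⟨b, Subgroup.mem_sup_right hb⟩ := rfl
  rw [this, map_mul, map_mul, h1 _ ha, h2 _ hb]

theorem alphaFun_eq_zero_of_mem (φ ψ : ↥(W₁ ⊔ W₂) →* ℂˣ)
    (hφ : ∀ w : ↥(W₁ ⊔ W₂), (w : G) ∈ W₂ → φ w = 1)
    (hψ : ∀ w : ↥(W₁ ⊔ W₂), (w : G) ∈ W₁ → ψ w = 1) (w : ↥(W₁ ⊔ W₂))
    (hw : (w : G) ∈ W₁ ∨ (w : G) ∈ W₂) : alphaFun φ ψ w = 0 := by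
  rw [alphaFun_apply]
  rcases hw with hw | hw
  · rw [hψ w hw]; simp
  · rw [hφ w hw]; simp

/-- The four "types" of characters are distinct. -/
theorem mul_eq_mul_iff (hcomm : ∀ a ∈ W₁, ∀ b ∈ W₂, a * b = b * a)
    (φ φ' ψ ψ' : ↥(W₁ ⊔ W₂) →* ℂˣ)
    (hφ : ∀ w : ↥(W₁ ⊔ W₂), (w : G) ∈ W₂ → φ w = 1)
    (hφ' : ∀ w : ↥(W₁ ⊔ W₂), (w : G) ∈ W₂ → φ' w = 1)
    (hψ : ∀ w : ↥(W₁ ⊔ W₂), (w : G) ∈ W₁ → ψ w = 1)
    (hψ' : ∀ w : ↥(W₁ ⊔ W₂), (w : G) ∈ W₁ → ψ' w = 1) :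
    φ * ψ = φ' * ψ' ↔ φ = φ' ∧ ψ = ψ' := by
  constructor
  · intro h
    constructor
    · apply hom_ext_sup hcomm
      · intro w hw
        have := DFunLike.congr_fun h w
        simpa [hψ w hw, hψ' w hw] using this
      · intro w hw
        rw [hφ w hw, hφ' w hw]
    · apply hom_ext_sup hcomm
      · intro w hw
        rw [hψ w hw, hψ' w hw]
      · intro w hw
        have := DFunLike.congr_fun h w
        simpa [hφ w hw, hφ' w hw] using this
  · rintro ⟨rfl, rfl⟩; rfl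

end Sup

section Family

variable {G : Type*} [Group G] [Fintype G] {W₁ W₂ : Subgroup G}

theorem classInner_res_alphaFun [Fintype ↥(W₁ ⊔ W₂)] {χ : (↥(W₁ ⊔ W₂) →* ℂˣ) → (G → ℂ)}
    (hχ : Cfsg.IsCyclicTIFamily W₁ W₂ χ) {θ : G → ℂ} (hθ : Cfsg.IsClassFunction G θ)
    (φ ψ : ↥(W₁ ⊔ W₂) →* ℂˣ)
    (hφ : ∀ w : ↥(W₁ ⊔ W₂), (w : G) ∈ W₂ → φ w = 1)
    (hψ : ∀ w : ↥(W₁ ⊔ W₂), (w : G) ∈ W₁ → ψ w = 1) :
    classInner (fun w : ↥(W₁ ⊔ W₂) => θ w) (alphaFun φ ψ) =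
      classInner θ (χ 1) - classInner θ (χ φ) - classInner θ (χ ψ) + classInner θ (χ (φ * ψ)) := by
  by_cases h1 : φ = 1
  · subst h1
    have h : (1 : ↥(W₁ ⊔ W₂) →* ℂˣ) * ψ = ψ := by ext; simp
    rw [alphaFun_one_left, classInner_zero_right, h]; ring
  by_cases h2 : ψ = 1
  · subst h2
    have h : φ * (1 : ↥(W₁ ⊔ W₂) →* ℂˣ) = φ := by ext; simp
    rw [alphaFun_one_right, classInner_zero_right, h]; ring
  rw [← Cfsg.Agent.Lib.Helper2.frobenius_reciprocity' _ _ _ hθ]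
  have := hχ.induced_eq φ ψ h1 h2 hφ hψ
  unfold alphaFun
  rw [this]
  have h3 : (fun g => 1 - χ φ g - χ ψ g + χ (φ * ψ) g) = χ 1 - χ φ - χ ψ + χ (φ * ψ) := by
    ext g; simp [hχ.map_one]
  rw [h3, classInner_add_right, classInner_sub_right, classInner_sub_right]

end Family

end Cfsg.Agent.Lib.Helper11
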