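import Mathlib
import Cfsg.Agent.Lib.Helper11.CyclicTI
import Cfsg.Agent.S0150

set_option autoImplicit false

namespace Cfsg.Agent.Lib.Helper11

open Cfsg Cfsg.Agent.Lib.Helper7

section Dual

variable {W : Type*} [Group W] [Finite W]

theorem exists_hom_ne_one (hc : ∀ a b : W, a * b = b * a) (H : Subgroup W) {x : W} (hx : x ∉ H) :
    ∃ φ : W →* ℂˣ, (∀ y ∈ H, φ y = 1) ∧ φ x ≠ 1 := by
  let _ : CommGroup W := { ‹Group W› with mul_comm := hc }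
  by_contra hcon
  push Not at hcon
  exact hx ((CommGroup.forall_monoidHom_apply_eq_one_iff ℂ H x).mp hcon)

theorem card_hom_trivial_on (hc : ∀ a b : W, a * b = b * a) (H : Subgroup W) :
    Nat.card {φ : W →* ℂˣ // ∀ y ∈ H, φ y = 1} = H.index := by
  let _ : CommGroup W := { ‹Group W› with mul_comm := hc }
  have := CommGroup.card_domRestrictHom_ker ℂ H
  rw [Subgroup.index, ← this]
  apply Nat.card_congr
  refine Equiv.subtypeEquivRight ?_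
  intro φ
  rw [MonoidHom.mem_ker, MonoidHom.domRestrictHom_apply, MonoidHom.domRestrict_eq_one_iff]

theorem card_hom (hc : ∀ a b : W, a * b = b * a) : Nat.card (W →* ℂˣ) = Nat.card W := by
  let _ : CommGroup W := { ‹Group W› with mul_comm := hc }
  exact CommGroup.card_monoidHom_of_hasEnoughRootsOfUnity W ℂ

theorem sum_hom_trivial_on (hc : ∀ a b : W, a * b = b * a) (H : Subgroup W)
    (Φ : Finset (W →* ℂˣ)) (hΦ : ∀ φ, φ ∈ Φ ↔ ∀ y ∈ H, φ y = 1) (x : W) [Decidable (x ∈ H)] :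
    ∑ φ ∈ Φ, (φ x : ℂ) = if x ∈ H then (Φ.card : ℂ) else 0 := by
  split_ifs with hx
  · rw [Finset.sum_congr rfl (g := fun _ => (1:ℂ))]
    · simp
    · intro φ hφ; rw [(hΦ φ).mp hφ x hx]; simp
  · obtain ⟨φ₀, h0, h1⟩ := exists_hom_ne_one hc H hx
    have h3 : (φ₀ x : ℂ) * ∑ φ ∈ Φ, (φ x : ℂ) = ∑ φ ∈ Φ, (φ x : ℂ) := by
      rw [Finset.mul_sum]
      apply Finset.sum_bij' (fun φ _ => φ₀ * φ) (fun φ _ => φ₀⁻¹ * φ)
      · intro φ hφ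
        rw [hΦ] at hφ ⊢
        intro y hy
        simp [h0 y hy, hφ y hy]
      · intro φ hφ
        rw [hΦ] at hφ ⊢
        intro y hy
        simp [h0 y hy, hφ y hy]
      · intro φ _
        ext y; simp
      · intro φ _
        ext y; simp
      · intro φ _
        simp
    have h2 : ((φ₀ x : ℂ) - 1) * ∑ φ ∈ Φ, (φ x : ℂ) = 0 := by
      linear_combination h3
    rcases mul_eq_zero.mp h2 with h | h
    · exfalso; apply h1; ext; simpa [sub_eq_zero] using h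
    · exact h

end Dual

section Delta

variable {G : Type*} [Group G] [Finite G] {W₁ W₂ : Subgroup G}

theorem eq_zero_of_orth_alphaFun [Fintype ↥(W₁ ⊔ W₂)] (hdisj : W₁ ⊓ W₂ = ⊥)
    (hc : ∀ a b : ↥(W₁ ⊔ W₂), a * b = b * a) (f : ↥(W₁ ⊔ W₂) → ℂ)
    (h : ∀ φ ψ : ↥(W₁ ⊔ W₂) →* ℂˣ, (∀ w : ↥(W₁ ⊔ W₂), (w : G) ∈ W₂ → φ w = 1) →
      (∀ w : ↥(W₁ ⊔ W₂), (w : G) ∈ W₁ → ψ w = 1) → classInner f (alphaFun φ ψ) = 0)
    (w₀ : ↥(W₁ ⊔ W₂)) (h1 : (w₀ : G) ∉ W₁) (h2 : (w₀ : G) ∉ W₂) : f w₀ = 0 := by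
  classical
  let _ : Fintype (↥(W₁ ⊔ W₂) →* ℂˣ) := Fintype.ofFinite _
  set A₁ : Subgroup ↥(W₁ ⊔ W₂) := W₁.subgroupOf (W₁ ⊔ W₂) with hA₁
  set A₂ : Subgroup ↥(W₁ ⊔ W₂) := W₂.subgroupOf (W₁ ⊔ W₂) with hA₂
  set Φ := Finset.univ.filter (fun φ : ↥(W₁ ⊔ W₂) →* ℂˣ => ∀ y ∈ A₂, φ y = 1) with hΦ
  set Ψ := Finset.univ.filter (fun φ : ↥(W₁ ⊔ W₂) →* ℂˣ => ∀ y ∈ A₁, φ y = 1) with hΨ
  have hΦ0 : (Φ.card : ℂ) ≠ 0 := by
    have : (1 : ↥(W₁ ⊔ W₂) →* ℂˣ) ∈ Φ := by simp [hΦ]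
    exact_mod_cast (Finset.card_pos.mpr ⟨_, this⟩).ne'
  have hΨ0 : (Ψ.card : ℂ) ≠ 0 := by
    have : (1 : ↥(W₁ ⊔ W₂) →* ℂˣ) ∈ Ψ := by simp [hΨ]
    exact_mod_cast (Finset.card_pos.mpr ⟨_, this⟩).ne'
  set F : ↥(W₁ ⊔ W₂) → ℂ :=
    ∑ φ ∈ Φ, ∑ ψ ∈ Ψ, ((φ w₀⁻¹ : ℂ) * (ψ w₀⁻¹ : ℂ)) • alphaFun φ ψ with hF
  have hw1 : w₀⁻¹ ∉ A₁ := fun hh => h1 (by
    have := A₁.inv_mem hh
    rw [inv_inv] at this
    exact this)
  have hw2 : w₀⁻¹ ∉ A₂ := fun hh => h2 (by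
    have := A₂.inv_mem hh
    rw [inv_inv] at this
    exact this)
  have hsum1 : ∀ w, ∑ φ ∈ Φ, (φ w₀⁻¹ : ℂ) * (1 - (φ w : ℂ)) =
      - (if w₀⁻¹ * w ∈ A₂ then (Φ.card : ℂ) else 0) := by
    intro w
    have e1 := sum_hom_trivial_on hc A₂ Φ (fun φ => by simp [hΦ]) w₀⁻¹
    have e2 := sum_hom_trivial_on hc A₂ Φ (fun φ => by simp [hΦ]) (w₀⁻¹ * w)
    rw [if_neg hw2] at e1
    rw [← e2]
    simp only [mul_sub, mul_one, Finset.sum_sub_distrib]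
    rw [e1]
    simp
  have hsum2 : ∀ w, ∑ φ ∈ Ψ, (φ w₀⁻¹ : ℂ) * (1 - (φ w : ℂ)) =
      - (if w₀⁻¹ * w ∈ A₁ then (Ψ.card : ℂ) else 0) := by
    intro w
    have e1 := sum_hom_trivial_on hc A₁ Ψ (fun φ => by simp [hΨ]) w₀⁻¹
    have e2 := sum_hom_trivial_on hc A₁ Ψ (fun φ => by simp [hΨ]) (w₀⁻¹ * w)
    rw [if_neg hw1] at e1
    rw [← e2]
    simp only [mul_sub, mul_one, Finset.sum_sub_distrib]
    rw [e1]
    simp
  have hFw : ∀ w, F w = if w = w₀ then (Φ.card : ℂ) * (Ψ.card : ℂ) else 0 := by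
    intro w
    have e : F w = (∑ φ ∈ Φ, (φ w₀⁻¹ : ℂ) * (1 - (φ w : ℂ))) *
        (∑ φ ∈ Ψ, (φ w₀⁻¹ : ℂ) * (1 - (φ w : ℂ))) := by
      rw [Finset.sum_mul_sum, hF]
      simp only [Finset.sum_apply, Pi.smul_apply, smul_eq_mul, alphaFun_apply]
      refine Finset.sum_congr rfl fun φ _ => Finset.sum_congr rfl fun ψ _ => ?_
      ring
    rw [e, hsum1, hsum2]
    by_cases hw : w = w₀
    · subst hw
      simp [A₁.one_mem, A₂.one_mem]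
    · rw [if_neg hw]
      by_cases k1 : w₀⁻¹ * w ∈ A₁
      · by_cases k2 : w₀⁻¹ * w ∈ A₂
        · exfalso
          apply hw
          have k3 : ((w₀⁻¹ * w : ↥(W₁ ⊔ W₂)) : G) ∈ W₁ ⊓ W₂ := ⟨k1, k2⟩
          rw [hdisj, Subgroup.mem_bot] at k3
          have k4 : w₀⁻¹ * w = 1 := Subtype.ext k3
          exact (inv_mul_eq_one.mp k4).symm
        · rw [if_neg k2]; simp
      · rw [if_neg k1]; simp
  have hin : classInner f F = 0 := by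
    rw [hF, classInner_sum_right]
    refine Finset.sum_eq_zero fun φ hφ => ?_
    rw [classInner_sum_right]
    refine Finset.sum_eq_zero fun ψ hψ => ?_
    rw [classInner_smul_right, h φ ψ, mul_zero]
    · intro w hw
      exact (Finset.mem_filter.mp hφ).2 w hw
    · intro w hw
      exact (Finset.mem_filter.mp hψ).2 w hw
  unfold classInner at hin
  have hcard : ((Nat.card ↥(W₁ ⊔ W₂) : ℂ))⁻¹ ≠ 0 := by
    apply inv_ne_zero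
    exact_mod_cast Nat.card_pos.ne'
  have h5 := (mul_eq_zero.mp hin).resolve_left hcard
  rw [Finset.sum_eq_single w₀] at h5
  · rw [hFw, if_pos rfl] at h5
    simp only [map_mul, map_natCast, mul_eq_zero] at h5
    rcases h5 with h5 | h5 | h5
    · exact h5
    · exact absurd h5 hΦ0
    · exact absurd h5 hΨ0
  · intro w _ hw
    rw [hFw, if_neg hw]; simp
  · intro hh; exact absurd (Finset.mem_univ _) hh

end Delta

section TI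

variable {G : Type*} [Group G] {W₁ W₂ : Subgroup G}

theorem comm_of_snc (hW : IsSelfNormalizingCyclic W₁ W₂) :
    ∀ a b : ↥(W₁ ⊔ W₂), a * b = b * a := by
  obtain ⟨_, _, _, _, hcyc, _⟩ := hW
  intro a b
  exact (IsCyclic.commGroup (α := ↥(W₁ ⊔ W₂))).mul_comm a b

/-- The set `W \ (W₁ ∪ W₂)`. -/
def sncSet (W₁ W₂ : Subgroup G) : Set G := (↑(W₁ ⊔ W₂) : Set G) \ (↑W₁ ∪ ↑W₂)

theorem mem_sncSet {x : G} : x ∈ sncSet W₁ W₂ ↔ x ∈ W₁ ⊔ W₂ ∧ x ∉ W₁ ∧ x ∉ W₂ := by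
  simp [sncSet]

/-- generators of `W`. -/
def sncGen (W₁ W₂ : Subgroup G) : Set G := {x | x ∈ W₁ ⊔ W₂ ∧ ∀ y ∈ W₁ ⊔ W₂, y ∈ Subgroup.zpowers x}

theorem sncGen_subset (hW : IsSelfNormalizingCyclic W₁ W₂) : sncGen W₁ W₂ ⊆ sncSet W₁ W₂ := by
  obtain ⟨h1, h2, hdisj, _, _, _⟩ := hW
  rintro x ⟨hx, hgen⟩
  rw [mem_sncSet]
  refine ⟨hx, fun hx1 => h2 ?_, fun hx2 => h1 ?_⟩
  · rw [eq_bot_iff, ← hdisj]
    intro y hy
    refine ⟨?_, hy⟩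
    have := hgen y (Subgroup.mem_sup_right hy)
    exact (Subgroup.zpowers_le.mpr hx1) this
  · rw [eq_bot_iff, ← hdisj]
    intro y hy
    refine ⟨hy, ?_⟩
    have := hgen y (Subgroup.mem_sup_left hy)
    exact (Subgroup.zpowers_le.mpr hx2) this

theorem sncGen_nonempty (hW : IsSelfNormalizingCyclic W₁ W₂) : (sncGen W₁ W₂).Nonempty := by
  obtain ⟨_, _, _, _, hcyc, _⟩ := hW
  obtain ⟨g, hg⟩ := IsCyclic.exists_generator (α := ↥(W₁ ⊔ W₂))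
  refine ⟨(g : G), g.2, fun y hy => ?_⟩
  obtain ⟨k, hk⟩ := Subgroup.mem_zpowers_iff.mp (hg ⟨y, hy⟩)
  refine Subgroup.mem_zpowers_iff.mpr ⟨k, ?_⟩
  have := congrArg Subtype.val hk
  simpa using this

theorem snc_normalizer (hW : IsSelfNormalizingCyclic W₁ W₂) :
    Subgroup.normalizer (sncSet W₁ W₂) = W₁ ⊔ W₂ :=
  hW.2.2.2.2.2 _ subset_rfl ((sncGen_nonempty hW).mono (sncGen_subset hW))

theorem mem_normalizer_singleton {w t : G} :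
    w ∈ Subgroup.normalizer ({t} : Set G) ↔ w * t * w⁻¹ = t := by
  rw [Subgroup.mem_set_normalizer_iff]
  constructor
  · intro h
    exact (h t).mp rfl
  · intro h n
    simp only [Set.mem_singleton_iff]
    constructor
    · rintro rfl; exact h
    · intro h'
      rw [← h] at h'
      simpa using h'

theorem sncGen_conj {g : G} (hg : ∀ w, w ∈ W₁ ⊔ W₂ ↔ g * w * g⁻¹ ∈ W₁ ⊔ W₂) {x : G}
    (hx : x ∈ sncGen W₁ W₂) : g * x * g⁻¹ ∈ sncGen W₁ W₂ := by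
  obtain ⟨hx, hgen⟩ := hx
  refine ⟨(hg x).mp hx, fun y hy => ?_⟩
  have h1 : g⁻¹ * y * g ∈ W₁ ⊔ W₂ := by
    rw [hg]
    have : g * (g⁻¹ * y * g) * g⁻¹ = y := by group
    rw [this]; exact hy
  obtain ⟨k, hk⟩ := Subgroup.mem_zpowers_iff.mp (hgen _ h1)
  refine Subgroup.mem_zpowers_iff.mpr ⟨k, ?_⟩
  rw [conj_zpow, hk]
  group

theorem snc_TI (hW : IsSelfNormalizingCyclic W₁ W₂) (g : G) (t : G) (ht : t ∈ sncSet W₁ W₂)
    (hgt : g * t * g⁻¹ ∈ sncSet W₁ W₂) : g ∈ W₁ ⊔ W₂ := by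
  have hN := hW.2.2.2.2.2
  have h1 : Subgroup.normalizer ({t} : Set G) = W₁ ⊔ W₂ :=
    hN _ (Set.singleton_subset_iff.mpr ht) (Set.singleton_nonempty _)
  have h2 : Subgroup.normalizer ({g * t * g⁻¹} : Set G) = W₁ ⊔ W₂ :=
    hN _ (Set.singleton_subset_iff.mpr hgt) (Set.singleton_nonempty _)
  have hconj : ∀ w, w ∈ W₁ ⊔ W₂ ↔ g * w * g⁻¹ ∈ W₁ ⊔ W₂ := by
    intro w
    conv_lhs => rw [← h1]
    conv_rhs => rw [← h2]
    rw [mem_normalizer_singleton, mem_normalizer_singleton]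
    have : g * w * g⁻¹ * (g * t * g⁻¹) * (g * w * g⁻¹)⁻¹ = g * (w * t * w⁻¹) * g⁻¹ := by group
    rw [this]
    constructor
    · intro h; rw [h]
    · intro h; simpa using h
  have hconj' : ∀ w, w ∈ W₁ ⊔ W₂ ↔ g⁻¹ * w * g⁻¹⁻¹ ∈ W₁ ⊔ W₂ := by
    intro w
    rw [hconj (g⁻¹ * w * g⁻¹⁻¹)]
    have : g * (g⁻¹ * w * g⁻¹⁻¹) * g⁻¹ = w := by group
    rw [this]
  rw [← hN _ (sncGen_subset hW) (sncGen_nonempty hW), Subgroup.mem_set_normalizer_iff]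
  intro x
  refine ⟨sncGen_conj hconj, fun h => ?_⟩
  have := sncGen_conj hconj' h
  have e : g⁻¹ * (g * x * g⁻¹) * g⁻¹⁻¹ = x := by group
  rwa [e] at this

theorem ti_isometry [Fintype G] (T : Set G) (N : Subgroup G) (hN : Subgroup.normalizer T = N)
    [Fintype N] (hTI : ∀ g : G, g ∉ N → ∀ t ∈ T, g * t * g⁻¹ ∈ T → t = 1)
    (hTN : T ⊆ N) (ψ θ : N → ℂ) (hψ : Cfsg.IsClassFunction N ψ) (hθ : Cfsg.IsClassFunction N θ)
    (hψT : ∀ x : N, (x : G) ∉ T → ψ x = 0) (hθT : ∀ x : N, (x : G) ∉ T → θ x = 0)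
    (hψ1 : ψ 1 = 0) :
    Cfsg.classInner (Cfsg.indFun N ψ) (Cfsg.indFun N θ) = Cfsg.classInner ψ θ := by
  subst hN
  exact Cfsg.Agent.S0150.result T hTI hTN ψ θ hψ hθ hψT hθT hψ1

theorem snc_isometry [Fintype G] [Fintype ↥(W₁ ⊔ W₂)] (hW : IsSelfNormalizingCyclic W₁ W₂)
    (ψ θ : ↥(W₁ ⊔ W₂) → ℂ)
    (hψT : ∀ x : ↥(W₁ ⊔ W₂), ((x : G) ∈ W₁ ∨ (x : G) ∈ W₂) → ψ x = 0)
    (hθT : ∀ x : ↥(W₁ ⊔ W₂), ((x : G) ∈ W₁ ∨ (x : G) ∈ W₂) → θ x = 0) :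
    Cfsg.classInner (Cfsg.indFun (W₁ ⊔ W₂) ψ) (Cfsg.indFun (W₁ ⊔ W₂) θ) =
      Cfsg.classInner ψ θ := by
  have hc := comm_of_snc hW
  have hcf : ∀ f : ↥(W₁ ⊔ W₂) → ℂ, IsClassFunction ↥(W₁ ⊔ W₂) f := by
    intro f g h
    rw [hc h g, mul_inv_cancel_right]
  refine ti_isometry (sncSet W₁ W₂) (W₁ ⊔ W₂) (snc_normalizer hW) ?_ ?_ ψ θ (hcf _) (hcf _) ?_ ?_ ?_
  · intro g hg t ht hgt
    exact absurd (snc_TI hW g t ht hgt) hg
  · intro x hx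
    exact (mem_sncSet.mp hx).1
  · intro x hx
    apply hψT
    by_contra hcon
    push Not at hcon
    exact hx (mem_sncSet.mpr ⟨x.2, hcon.1, hcon.2⟩)
  · intro x hx
    apply hθT
    by_contra hcon
    push Not at hcon
    exact hx (mem_sncSet.mpr ⟨x.2, hcon.1, hcon.2⟩)
  · exact hψT 1 (Or.inl W₁.one_mem)

end TI

end Cfsg.Agent.Lib.Helper11
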