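import Mathlib
import Cfsg.Agent.Lib.Helper11.ChainList
set_option autoImplicit false
set_option maxRecDepth 100000
namespace Cfsg.Agent.Lib.Helper11
open Cfsg Cfsg.Agent.Lib.Helper3
def hsInvT : ℕ := 0x2a5254a5294a529494a94a5294a5254a5294a5294a52929525295294a5294a5292a4a9495294a4a9495294a5292a529495294a5294a529495252a5294a4a9295294a525495294a5294a5294a5252a5294a4a94a5292a5254a5294a4a94a4a94a5292a5294a5254a5254a5294a5294a4a54a529494a94a5254a5294a5296a5294a5294a529494a94a4a94a5294a5294a4a92a4a92a5294a529495254a4a92a4a94a5294a5294a5292a5254a5294a5254a5292a525495294a4a94a4a9495294a5292a529295292a5294a5292a5294a4a94a5292a4a94a529494a94a5254a5294a529495294a5294a5254a4a54a5254a5294952949529495294a5292a5294a525494a54a5254a5294a529495294a5294a5294a52549529495294a4a54a5294a525494a94a5294a5254a4a94a5294a5254a529495252a5294a5292a5294a5294a5292a5294a5294a5294b4a94a5294a5292a5294a5294a529495a92a5294a4a54a5254a5292a5294a529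
theorem hsInv_chk : chkGen chH 2 hsInvT = true := by decide +kernel
theorem hsInv_sym : (List.range 24).all (fun i => (List.range 24).all (fun j => Nat.beq (ent hsInvT i j) (ent hsInvT j i))) = true := by decide +kernel
theorem hsInv_nf : x1L.all (fun n => bif condAll chH 2 hatts n then !(Nat.beq (imgN (TWF (ent hsInvT)) (convW (TWF (ent hsInvT)) ONEW) (widen n) (conv 24 ONE24 n)) n) else true) = true := by decide +kernel
end Cfsg.Agent.Lib.Helper11
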