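import Mathlib
import Cfsg.Prelude.Def_SporadicCombinatorics
import Cfsg.Agent.Lib.Helper11.TGolay

set_option autoImplicit false
set_option maxRecDepth 100000

namespace Cfsg.Agent.Lib.Helper11.M12

open Cfsg Cfsg.Agent.Lib.Helper11.TG

/-- position number. -/
def idx (p : ArrayPt) : ℕ := 3 * p.1.val + p.2.val

/-- the position with a given number. -/
def pt (n : ℕ) : ArrayPt := (Fin.ofNat 4 (n / 3), ((n % 3 : ℕ) : ZMod 3))

/-- a permutation from its table and the table of its inverse. -/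
def mkPerm (f g : List ℕ) (h1 : ∀ p : ArrayPt, pt (g.getD (idx (pt (f.getD (idx p) 0))) 0) = p)
    (h2 : ∀ p : ArrayPt, pt (f.getD (idx (pt (g.getD (idx p) 0))) 0) = p) : Equiv.Perm ArrayPt :=
  ⟨fun p => pt (f.getD (idx p) 0), fun p => pt (g.getD (idx p) 0), h1, h2⟩

/-- signs from a table. -/
def mkSgn (l : List ℕ) (p : ArrayPt) : (ZMod 3)ˣ := if l.getD (idx p) 0 = 1 then 1 else -1

/-- generator 0. -/
def g0 : Equiv.Perm ArrayPt := mkPerm [9, 4, 5, 8, 0, 7, 2, 6, 1, 11, 3, 10] [4, 8, 6, 10, 1, 2, 7, 5, 3, 0, 11, 9] (by decide) (by decide)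
/-- its signs. -/
def s0 : ArrayPt → (ZMod 3)ˣ := mkSgn [1, 2, 2, 2, 1, 1, 1, 2, 2, 2, 1, 1]

/-- generator 1. -/
def g1 : Equiv.Perm ArrayPt := mkPerm [7, 3, 0, 2, 1, 11, 5, 4, 10, 6, 9, 8] [2, 4, 3, 1, 7, 6, 9, 0, 11, 10, 8, 5] (by decide) (by decide)
/-- its signs. -/
def s1 : ArrayPt → (ZMod 3)ˣ := mkSgn [2, 2, 1, 2, 2, 1, 2, 2, 1, 1, 1, 1]

/-- generator 2. -/
def g2 : Equiv.Perm ArrayPt := mkPerm [4, 8, 6, 10, 1, 2, 7, 5, 3, 0, 11, 9] [9, 4, 5, 8, 0, 7, 2, 6, 1, 11, 3, 10] (by decide) (by decide)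
/-- its signs. -/
def s2 : ArrayPt → (ZMod 3)ˣ := mkSgn [2, 1, 1, 2, 1, 2, 2, 1, 2, 1, 2, 1]

/-- generator 3. -/
def g3 : Equiv.Perm ArrayPt := mkPerm [2, 4, 3, 1, 7, 6, 9, 0, 11, 10, 8, 5] [7, 3, 0, 2, 1, 11, 5, 4, 10, 6, 9, 8] (by decide) (by decide)
/-- its signs. -/
def s3 : ArrayPt → (ZMod 3)ˣ := mkSgn [1, 1, 1, 2, 1, 2, 2, 1, 2, 1, 2, 2]

/-- membership test. -/
theorem mem_iff' (x : ArrayPt → ZMod 3) : x ∈ ternaryGolayCode ↔ enc (info x) = x :=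
  ⟨fun h => (eq_enc h).symm, fun h => h ▸ enc_mem _⟩

theorem chk0 : ∀ u : U6, enc (info (monomialMap g0 s0 (enc u))) = monomialMap g0 s0 (enc u) := by
  decide +kernel

theorem chk1 : ∀ u : U6, enc (info (monomialMap g1 s1 (enc u))) = monomialMap g1 s1 (enc u) := by
  decide +kernel

theorem chk2 : ∀ u : U6, enc (info (monomialMap g2 s2 (enc u))) = monomialMap g2 s2 (enc u) := by
  decide +kernel

theorem chk3 : ∀ u : U6, enc (info (monomialMap g3 s3 (enc u))) = monomialMap g3 s3 (enc u) := by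
  decide +kernel

/-- the generators. -/
def gen : Fin 4 → Equiv.Perm ArrayPt := ![g0, g1, g2, g3]

/-- evaluation of a word. -/
def ev (l : List (Fin 4)) : Equiv.Perm ArrayPt := (l.map gen).prod

/-- transversal words, level 0. -/
def T0 : List (List (Fin 4)) := [[], [1, 2], [3], [3, 3], [2], [2, 1], [1, 0], [1], [1, 0, 0], [0], [3, 0], [0, 0]]

/-- transversal words, level 1. -/
def T1 : List (List (Fin 4)) := [[], [1, 0, 0, 3, 2], [1, 0, 0, 1], [0, 3, 2, 2], [0, 1, 1], [3, 0, 3, 0, 0], [2, 1, 0, 0, 0], [1, 2, 2, 1], [2, 3, 0, 1], [3, 0, 0, 3], [3, 2, 1, 0]]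

/-- transversal words, level 2. -/
def T2 : List (List (Fin 4)) := [[], [2, 3, 2, 3], [0, 3, 0, 0, 1, 1, 2], [2, 3, 0, 0, 1, 1, 0], [3, 2, 3, 2, 1], [1, 0, 0, 0, 1, 1, 0], [3, 3, 0, 0, 1, 0, 0], [1, 0, 1, 0], [0, 1, 1, 0, 1, 1], [1, 0, 3, 2, 2, 1, 0]]

/-- transversal words, level 3. -/
def T3 : List (List (Fin 4)) := [[], [0, 0, 0, 1, 2, 2, 3, 0, 0, 1], [2, 1, 1, 1, 2, 2, 3, 0, 1, 0], [3, 0, 1, 0, 3, 2, 3, 3, 2], [3, 2, 3, 2, 1, 2, 3, 2, 3], [2, 2, 2, 3, 2, 1, 2, 2, 1, 0], [3, 2, 1, 1, 2, 3, 3], [1, 1, 0, 3, 3, 0, 1], [0, 3, 2, 3, 0, 0, 3, 0, 1, 0]]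

/-- transversal words, level 4. -/
def T4 : List (List (Fin 4)) := [[], [1, 0, 0, 0, 1, 0, 0, 1, 2, 3], [1, 0, 0, 1, 2, 1, 1, 2, 1, 2], [0, 1, 2, 1, 0, 0, 1, 2, 1, 0], [1, 0, 3, 2, 2, 2, 3], [0, 3, 0, 3, 3, 0, 3, 2, 2, 3], [1, 0, 0, 0, 1, 2, 3], [2, 3, 0, 3, 2, 2, 3, 0, 3, 2]]

/-- all the transversals. -/
def TT : Fin 5 → List (List (Fin 4)) := ![T0, T1, T2, T3, T4]

theorem levAll : ∀ k : Fin 5, ∀ y : ArrayPt, (∀ j : Fin 5, j < k → y ≠ pt j.val) →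
    ∃ l ∈ TT k, (∀ j : Fin 5, j < k → ev l (pt j.val) = pt j.val) ∧ ev l (pt k.val) = y := by
  decide +kernel

/-- a word of full weight. -/
def BW : ArrayPt → ZMod 3 := enc (2, 1, 2, 1, 2, 2)

theorem BW_sq : ∀ i, BW i * BW i = 1 := by decide +kernel

/-- the unit vectors. -/
def basisL : List U6 := [(1,0,0,0,0,0), (0,1,0,0,0,0), (0,0,1,0,0,0), (0,0,0,1,0,0), (0,0,0,0,1,0), (0,0,0,0,0,1)]

/-- hypothesis of the diagonal check. -/
def kerHyp (u : U6) : Prop := ∀ v ∈ basisL, enc (info (fun i => enc u i * BW i * enc v i)) =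
    fun i => enc u i * BW i * enc v i

instance : DecidablePred kerHyp := fun u => by unfold kerHyp; infer_instance

/-- conclusion of the diagonal check. -/
def kerConcl (u : U6) : Prop := ∀ i j, enc u i * BW i = enc u j * BW j

instance : DecidablePred kerConcl := fun u => by unfold kerConcl; infer_instance

theorem kerChk : ∀ u : U6, kerHyp u → kerConcl u := by
  decide +kernel

theorem pt_inj5 : ∀ j k : Fin 5, pt j.val = pt k.val → j = k := by decide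

end Cfsg.Agent.Lib.Helper11.M12
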