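import Mathlib

set_option autoImplicit false

namespace Cfsg.Agent.Lib.Helper11

/-- A nontrivial normal subgroup of a finite `p`-group meets the centre nontrivially. -/
theorem exists_mem_center_of_normal_ne_bot {P : Type*} [Group P] [Finite P] (p : ℕ) [Fact p.Prime]
    (hP : IsPGroup p P) (N : Subgroup P) [N.Normal] (hN : N ≠ ⊥) :
    ∃ z ∈ N, z ≠ 1 ∧ z ∈ Subgroup.center P := by
  have h := (hP.of_equiv ConjAct.toConjAct).exists_fixed_point_of_prime_dvd_card_of_fixed_point
    (α := N) (a := 1)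
  have hNp : IsPGroup p N := hP.to_subgroup N
  have : Nontrivial N := (Subgroup.nontrivial_iff_ne_bot N).mpr hN
  have dvd : p ∣ Nat.card N := by
    obtain ⟨n, hn0, hn⟩ := hNp.nontrivial_iff_card.mp inferInstance
    exact hn.symm ▸ dvd_pow_self _ (ne_of_gt hn0)
  obtain ⟨b, hb, hb1⟩ := h dvd (by
    intro g
    exact smul_one g)
  refine ⟨b, b.2, ?_, ?_⟩
  · intro h1
    apply hb1
    ext
    simpa using h1.symm
  · rw [Subgroup.mem_center_iff]
    intro g
    have := hb (ConjAct.toConjAct g)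
    have h2 : g * (b : P) * g⁻¹ = b := by
      have h3 := congrArg Subtype.val this
      rw [ConjAct.Subgroup.val_conj_smul, ConjAct.toConjAct_smul] at h3
      exact h3
    calc g * (b : P) = g * b * g⁻¹ * g := by group
      _ = b * g := by rw [h2]

/-- A finite `p`-group has a normal abelian subgroup containing its own centralizer. -/
theorem exists_normal_abelian_self_centralizing {R : Type*} [Group R] [Finite R] (p : ℕ)
    [Fact p.Prime] (hR : IsPGroup p R) :
    ∃ A : Subgroup R, A.Normal ∧ IsMulCommutative A ∧ Subgroup.centralizer (A : Set R) ≤ A := by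
  obtain ⟨A, -, hA⟩ := Finite.exists_le_maximal
    (p := fun A : Subgroup R => A.Normal ∧ IsMulCommutative A) (a := ⊥)
    ⟨inferInstance, inferInstance⟩
  obtain ⟨⟨hAn, hAc⟩, hmax⟩ := hA
  refine ⟨A, hAn, hAc, ?_⟩
  by_contra hcon
  obtain ⟨x, hxC, hxA⟩ := SetLike.not_le_iff_exists.mp hcon
  let π := QuotientGroup.mk' A
  have hπs : Function.Surjective π := QuotientGroup.mk'_surjective A
  let N := (Subgroup.centralizer (A : Set R)).map π
  have hNn : N.Normal := Subgroup.Normal.map inferInstance π hπs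
  have hN : N ≠ ⊥ := by
    intro h
    have : π x ∈ N := Subgroup.mem_map_of_mem π hxC
    rw [h, Subgroup.mem_bot] at this
    exact hxA ((QuotientGroup.eq_one_iff x).mp this)
  obtain ⟨zb, hzN, hz1, hzc⟩ := exists_mem_center_of_normal_ne_bot p (hR.to_quotient A) N hN
  obtain ⟨z, hzC, rfl⟩ := Subgroup.mem_map.mp hzN
  have hzA : z ∉ A := fun h => hz1 ((QuotientGroup.eq_one_iff z).mpr h)
  let B := (Subgroup.zpowers (π z)).comap π
  have hZn : (Subgroup.zpowers (π z)).Normal := by
    constructor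
    intro n hn g
    obtain ⟨k, rfl⟩ := Subgroup.mem_zpowers_iff.mp hn
    have hc : (π z) ^ k ∈ Subgroup.center (R ⧸ A) := Subgroup.zpow_mem _ hzc k
    rw [Subgroup.mem_center_iff] at hc
    rw [hc g]
    simp
  have hBn : B.Normal := Subgroup.Normal.comap hZn π
  have hAB : A ≤ B := by
    intro a ha
    show π a ∈ Subgroup.zpowers (π z)
    have h1 : π a = 1 := (QuotientGroup.eq_one_iff a).mpr ha
    rw [h1]
    exact Subgroup.one_mem _
  have hzB : z ∈ B := Subgroup.mem_zpowers (π z)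
  have hdec : ∀ b ∈ B, ∃ k : ℤ, ∃ a ∈ A, b = z ^ k * a := by
    intro b hb
    obtain ⟨k, hk⟩ := Subgroup.mem_zpowers_iff.mp hb
    refine ⟨k, (z ^ k)⁻¹ * b, ?_, by group⟩
    apply (QuotientGroup.eq_one_iff _).mp
    show π ((z ^ k)⁻¹ * b) = 1
    rw [map_mul, map_inv, map_zpow, hk]
    simp
  have hzk : ∀ k : ℤ, ∀ a ∈ A, a * z ^ k = z ^ k * a := by
    intro k a ha
    have : z ^ k ∈ Subgroup.centralizer (A : Set R) := Subgroup.zpow_mem _ hzC k
    exact (Subgroup.mem_centralizer_iff.mp this) a ha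
  have hAcomm : ∀ a ∈ A, ∀ a' ∈ A, a * a' = a' * a := by
    intro a ha a' ha'
    have := hAc.is_comm.comm ⟨a, ha⟩ ⟨a', ha'⟩
    exact congrArg Subtype.val this
  have hBc : IsMulCommutative B := by
    rw [isMulCommutative_iff]
    rintro ⟨b, hb⟩ ⟨b', hb'⟩
    ext
    show b * b' = b' * b
    obtain ⟨k, a, ha, rfl⟩ := hdec b hb
    obtain ⟨k', a', ha', rfl⟩ := hdec b' hb'
    calc z ^ k * a * (z ^ k' * a') = z ^ k * (a * z ^ k') * a' := by group
      _ = z ^ k * (z ^ k' * a) * a' := by rw [hzk k' a ha]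
      _ = (z ^ k * z ^ k') * (a * a') := by group
      _ = (z ^ k' * z ^ k) * (a' * a) := by rw [hAcomm a ha a' ha', ← zpow_add, ← zpow_add, add_comm]
      _ = z ^ k' * (z ^ k * a') * a := by group
      _ = z ^ k' * (a' * z ^ k) * a := by rw [hzk k a' ha']
      _ = z ^ k' * a' * (z ^ k * a) := by group
  exact hzA (hmax ⟨hBn, hBc⟩ hAB hzB)

end Cfsg.Agent.Lib.Helper11
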