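import Mathlib
import Cfsg.Agent.Lib.Helper11.ChainG2
import Cfsg.Agent.Lib.Helper11.QLib
set_option autoImplicit false
set_option maxRecDepth 100000
namespace Cfsg.Agent.Lib.Helper11
open Cfsg Cfsg.Agent.Lib.Helper3
def chQ : ℕ := 0x4210842108421084210842108421084210842108421084210842108421084210842108421084210842108421084210842108421084210842108421084210842108421084210842108421084210842108421084210842108421084210842108421084210842108421084210842108421084210842108421084210842108421084210842108421084210842108421084210842108421084210842108421084210842108421084210842108421084210842108421084210842108421084210842108421084210842108421084210842108421084210842108421084210842108421084210842108421084210842108421084210842108421084210842108421084210842108421084210842108421084210842108421084210842108421084210842108421084210842108421084210842108421084210842108421084210842108421084210842108421084a5294a5294a5294a5294a5294a52542108421084210842108421084218c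
theorem mclq_hg : chkGens8 chQ 2 mclTs = true := by decide +kernel
end Cfsg.Agent.Lib.Helper11
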