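import Mathlib
import Cfsg.Prelude.Def_Spor_Ru

set_option autoImplicit false

namespace Cfsg.Agent.Lib.Helper11.Ru

open Cfsg

set_option maxRecDepth 100000

open Cfsg.Spor

abbrev GI := GaussianInt

/-! ### data -/

def tabG (l : List (ℤ × ℤ)) : RuVec := fun p => ⟨(l.getD (4 * p.1.val + p.2.val) (0, 0)).1, (l.getD (4 * p.1.val + p.2.val) (0, 0)).2⟩
def famG (L : List (List (ℤ × ℤ))) (j : ℕ) : RuVec := tabG (L.getD j [])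
def cofG (L : List (List (ℤ × ℤ))) (j k : ℕ) : GI := ⟨((L.getD j []).getD k (0, 0)).1, ((L.getD j []).getD k (0, 0)).2⟩
def nidx (p : RuIdx) : ℕ := 4 * p.1.val + p.2.val
def ofN (n : ℕ) : RuIdx := (Fin.ofNat 7 (n / 4), Fin.ofNat 4 (n % 4))
def bitZ (m : ℕ) (p : RuIdx) : ZMod 2 := if m.testBit (nidx p) then 1 else 0

def bL : List (List (ℤ × ℤ)) := [[(4, 0), (0, 0), (0, 0), (0, 0), (0, 0), (0, 0), (0, 0), (0, 0), (0, 0), (0, 0), (0, 0), (0, 0), (0, 0), (0, 0), (0, 0), (0, 0), (0, 0), (0, 0), (0, 0), (0, 0), (0, 0), (0, 0), (0, 0), (0, 0), (0, 0), (0, 0), (0, 0), (0, 0)],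
  [(0, 0), (0, 4), (0, 0), (0, 0), (0, 0), (0, 0), (0, 0), (0, 0), (0, 0), (0, 0), (0, 0), (0, 0), (0, 0), (0, 0), (0, 0), (0, 0), (0, 0), (0, 0), (0, 0), (0, 0), (0, 0), (0, 0), (0, 0), (0, 0), (0, 0), (0, 0), (0, 0), (0, 0)],
  [(0, 0), (0, 0), (0, 4), (0, 0), (0, 0), (0, 0), (0, 0), (0, 0), (0, 0), (0, 0), (0, 0), (0, 0), (0, 0), (0, 0), (0, 0), (0, 0), (0, 0), (0, 0), (0, 0), (0, 0), (0, 0), (0, 0), (0, 0), (0, 0), (0, 0), (0, 0), (0, 0), (0, 0)],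
  [(-2, -2), (2, -2), (2, -2), (2, -2), (0, 0), (0, 0), (0, 0), (0, 0), (0, 0), (0, 0), (0, 0), (0, 0), (0, 0), (0, 0), (0, 0), (0, 0), (0, 0), (0, 0), (0, 0), (0, 0), (0, 0), (0, 0), (0, 0), (0, 0), (0, 0), (0, 0), (0, 0), (0, 0)],
  [(0, 0), (0, 0), (0, 0), (0, 0), (4, 0), (0, 0), (0, 0), (0, 0), (0, 0), (0, 0), (0, 0), (0, 0), (0, 0), (0, 0), (0, 0), (0, 0), (0, 0), (0, 0), (0, 0), (0, 0), (0, 0), (0, 0), (0, 0), (0, 0), (0, 0), (0, 0), (0, 0), (0, 0)],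
  [(-2, 0), (2, 0), (0, -2), (-2, 0), (-2, -2), (2, -2), (0, 0), (0, 0), (0, 0), (0, 0), (0, 0), (0, 0), (0, 0), (0, 0), (0, 0), (0, 0), (0, 0), (0, 0), (0, 0), (0, 0), (0, 0), (0, 0), (0, 0), (0, 0), (0, 0), (0, 0), (0, 0), (0, 0)],
  [(0, -2), (2, 0), (2, 0), (-2, 0), (-2, -2), (0, 0), (-2, -2), (0, 0), (0, 0), (0, 0), (0, 0), (0, 0), (0, 0), (0, 0), (0, 0), (0, 0), (0, 0), (0, 0), (0, 0), (0, 0), (0, 0), (0, 0), (0, 0), (0, 0), (0, 0), (0, 0), (0, 0), (0, 0)],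
  [(-2, -2), (2, -2), (0, 0), (0, 0), (0, -2), (-2, 0), (0, 2), (0, 2), (0, 0), (0, 0), (0, 0), (0, 0), (0, 0), (0, 0), (0, 0), (0, 0), (0, 0), (0, 0), (0, 0), (0, 0), (0, 0), (0, 0), (0, 0), (0, 0), (0, 0), (0, 0), (0, 0), (0, 0)],
  [(0, 0), (0, 0), (0, 0), (0, 0), (0, 0), (0, 0), (0, 0), (0, 0), (4, 0), (0, 0), (0, 0), (0, 0), (0, 0), (0, 0), (0, 0), (0, 0), (0, 0), (0, 0), (0, 0), (0, 0), (0, 0), (0, 0), (0, 0), (0, 0), (0, 0), (0, 0), (0, 0), (0, 0)],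
  [(0, 0), (2, -2), (2, -2), (0, 0), (0, 0), (0, 0), (0, 0), (0, 0), (-2, -2), (2, 2), (0, 0), (0, 0), (0, 0), (0, 0), (0, 0), (0, 0), (0, 0), (0, 0), (0, 0), (0, 0), (0, 0), (0, 0), (0, 0), (0, 0), (0, 0), (0, 0), (0, 0), (0, 0)],
  [(1, 1), (1, 1), (1, -1), (-1, -1), (1, -1), (-1, -1), (-1, 1), (1, -1), (-2, 0), (0, 0), (0, 2), (0, 0), (0, 0), (0, 0), (0, 0), (0, 0), (0, 0), (0, 0), (0, 0), (0, 0), (0, 0), (0, 0), (0, 0), (0, 0), (0, 0), (0, 0), (0, 0), (0, 0)],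
  [(1, -1), (-1, 1), (1, -1), (-1, -1), (-2, 0), (-2, 0), (0, 0), (0, 0), (-1, 1), (1, -1), (1, -1), (-1, -1), (0, 0), (0, 0), (0, 0), (0, 0), (0, 0), (0, 0), (0, 0), (0, 0), (0, 0), (0, 0), (0, 0), (0, 0), (0, 0), (0, 0), (0, 0), (0, 0)],
  [(0, 0), (0, -2), (0, 0), (-2, 0), (-2, -2), (-2, 0), (0, 2), (0, 0), (0, 0), (0, 0), (0, 0), (0, 0), (2, 2), (0, 0), (0, 0), (0, 0), (0, 0), (0, 0), (0, 0), (0, 0), (0, 0), (0, 0), (0, 0), (0, 0), (0, 0), (0, 0), (0, 0), (0, 0)],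
  [(0, -2), (2, 0), (0, -2), (-2, 0), (0, 0), (-2, 0), (0, 2), (0, 0), (0, 0), (0, 0), (0, 0), (0, 0), (0, -2), (2, 0), (0, 0), (0, 0), (0, 0), (0, 0), (0, 0), (0, 0), (0, 0), (0, 0), (0, 0), (0, 0), (0, 0), (0, 0), (0, 0), (0, 0)],
  [(-2, 0), (0, -2), (0, 0), (0, 0), (0, -2), (0, 0), (0, 2), (0, 0), (0, 0), (0, 0), (0, 0), (0, 0), (0, -2), (0, 0), (2, 0), (0, 0), (0, 0), (0, 0), (0, 0), (0, 0), (0, 0), (0, 0), (0, 0), (0, 0), (0, 0), (0, 0), (0, 0), (0, 0)],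
  [(-2, 0), (2, 0), (0, 0), (0, 0), (-1, 1), (-1, 1), (1, 1), (1, -1), (0, -2), (0, -2), (0, 0), (0, 0), (1, -1), (-1, -1), (-1, -1), (1, 1), (0, 0), (0, 0), (0, 0), (0, 0), (0, 0), (0, 0), (0, 0), (0, 0), (0, 0), (0, 0), (0, 0), (0, 0)],
  [(-1, -1), (1, 1), (-1, 1), (-1, -1), (-1, -1), (-1, -1), (1, 1), (1, -1), (-2, 0), (0, -2), (0, 0), (0, 0), (0, 0), (0, 0), (0, 0), (0, 0), (-2, -2), (0, 0), (0, 0), (0, 0), (0, 0), (0, 0), (0, 0), (0, 0), (0, 0), (0, 0), (0, 0), (0, 0)],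
  [(1, 0), (2, 1), (2, -1), (0, -1), (-1, 1), (-1, -1), (1, 1), (1, -1), (-2, -2), (1, -1), (1, -1), (0, 0), (0, -1), (0, -1), (-1, 0), (0, -1), (-1, 1), (1, -1), (0, 0), (0, 0), (0, 0), (0, 0), (0, 0), (0, 0), (0, 0), (0, 0), (0, 0), (0, 0)],
  [(-2, -2), (2, -2), (0, 0), (0, 0), (0, 0), (-2, 0), (0, 2), (0, 0), (0, -2), (0, -2), (0, 0), (0, 0), (0, 0), (0, 0), (0, 0), (0, 0), (0, 2), (0, 0), (0, 2), (0, 0), (0, 0), (0, 0), (0, 0), (0, 0), (0, 0), (0, 0), (0, 0), (0, 0)],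
  [(0, -1), (0, 1), (-1, 0), (0, 1), (0, 0), (0, 0), (0, 0), (0, 0), (0, 1), (-1, 0), (0, -1), (0, 1), (1, 0), (-1, 0), (-1, 0), (0, -1), (0, -1), (-1, 0), (1, 0), (-1, 0), (0, 0), (0, 0), (0, 0), (0, 0), (0, 0), (0, 0), (0, 0), (0, 0)],
  [(-2, -2), (0, -2), (-1, -1), (-1, 1), (0, -2), (-2, 0), (0, 0), (0, 0), (1, 0), (-1, 0), (1, 0), (0, 1), (-1, 0), (0, -1), (0, -1), (0, -1), (-1, 1), (0, 0), (1, -1), (0, 0), (-2, 0), (0, 0), (0, 0), (0, 0), (0, 0), (0, 0), (0, 0), (0, 0)],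
  [(1, 0), (-1, -2), (0, 1), (-1, 0), (0, 1), (1, 0), (-1, 0), (1, 0), (-2, -1), (1, 0), (0, -1), (0, 1), (1, 0), (0, -1), (0, -1), (0, -1), (-1, 1), (0, 0), (1, -1), (0, 0), (1, 1), (1, 1), (0, 0), (0, 0), (0, 0), (0, 0), (0, 0), (0, 0)],
  [(1, 0), (1, 0), (0, 1), (1, 0), (-1, -1), (-1, -1), (0, 0), (0, 0), (0, 1), (1, 0), (0, -1), (0, 1), (0, -2), (0, 0), (0, 0), (0, 0), (0, 2), (0, 0), (0, 0), (0, 0), (1, 1), (0, 0), (-1, 1), (0, 0), (0, 0), (0, 0), (0, 0), (0, 0)],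
  [(-2, -1), (-1, 0), (0, 1), (0, 1), (0, 0), (-1, -1), (0, 2), (1, -1), (-1, 0), (0, 1), (0, -1), (0, 1), (-1, 0), (0, -1), (0, -1), (0, -1), (1, 1), (0, 0), (1, -1), (0, 0), (1, 0), (0, -1), (1, 0), (-1, 0), (0, 0), (0, 0), (0, 0), (0, 0)],
  [(-2, 1), (2, 0), (2, 0), (0, 1), (-1, -1), (-2, 0), (0, 1), (0, -1), (-2, 1), (0, -1), (1, -1), (0, 0), (0, -1), (-1, -1), (-1, 0), (0, 0), (0, 0), (-1, 0), (1, 0), (0, 0), (0, 1), (0, 0), (1, 0), (0, 0), (-1, 1), (0, 0), (0, 0), (0, 0)],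
  [(1, 1), (2, -2), (2, 1), (1, 0), (0, 1), (-2, 0), (0, 1), (0, 0), (-2, -1), (-1, -1), (0, 0), (0, 1), (0, 1), (-1, -1), (0, -1), (0, 0), (1, 1), (0, 0), (0, 0), (0, 0), (0, 0), (0, -1), (1, 0), (0, 0), (1, 0), (1, 0), (0, 0), (0, 0)],
  [(1, 1), (1, -1), (0, -2), (-1, -1), (-2, -1), (-1, -1), (0, 2), (1, 0), (0, -1), (-1, 0), (1, -1), (0, 0), (-1, -1), (-1, -1), (0, -1), (0, -1), (0, -1), (0, 0), (0, -1), (0, 0), (1, 1), (0, -1), (1, 0), (0, 0), (1, 0), (0, 0), (0, -1), (0, 0)],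
  [(1, -2), (2, 0), (-1, -2), (-1, 1), (0, 1), (1, 0), (0, -1), (1, 0), (-1, -2), (0, 0), (1, -1), (0, 1), (1, -1), (0, 0), (0, -1), (0, -1), (1, 0), (-1, 0), (1, -1), (0, 0), (1, 0), (0, 0), (1, 0), (0, 0), (1, 0), (0, 0), (0, 0), (0, 1)]]
def b (j : Fin 28) : RuVec := famG bL j.val
def cTL : List (List (ℤ × ℤ)) := [[(1, 0), (0, 0), (0, 0), (0, 0), (0, 0), (0, 0), (0, 0), (0, 0), (0, 0), (0, 0), (0, 0), (0, 0), (0, 0), (0, 0), (0, 0), (0, 0), (0, 0), (0, 0), (0, 0), (0, 0), (0, 0), (0, 0), (0, 0), (0, 0), (0, 0), (0, 0), (0, 0), (0, 0)],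
  [(39, 1), (47, 12), (38, 3), (33, -10), (32, -9), (10, -15), (9, -14), (1, -6), (3, -6), (3, -6), (-1, -3), (-2, -3), (2, -5), (-1, -4), (-1, -3), (-2, -1), (0, -4), (0, 0), (-1, -2), (0, 0), (-2, -1), (-1, 0), (-1, 0), (-1, 0), (-1, 0), (-1, 0), (0, 1), (1, 0)],
  [(13, 118), (-9, 148), (7, 111), (45, 94), (39, 94), (48, 24), (46, 24), (20, 0), (20, 7), (21, 3), (8, -7), (4, -7), (18, 3), (10, -3), (9, -3), (5, -6), (9, -2), (0, -2), (4, -5), (0, 0), (2, -5), (-1, -2), (-1, -4), (-1, 0), (-1, -2), (-1, 0), (0, -1), (-1, 0)],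
  [(-73, -36), (-80, -62), (-67, -39), (-70, -10), (-68, -12), (-33, 19), (-29, 17), (-8, 12), (-11, 10), (-11, 10), (0, 8), (2, 7), (-7, 9), (-1, 6), (-1, 6), (2, 4), (-2, 7), (1, 1), (1, 4), (0, 0), (2, 3), (1, 0), (3, 2), (1, 0), (1, 0), (1, 0), (0, -1), (1, 0)],
  [(30, -30), (44, -30), (31, -25), (17, -34), (21, -35), (-2, -19), (-4, -20), (-4, -6), (-3, -8), (-4, -5), (-3, -2), (-2, 1), (-5, -9), (-4, -1), (-5, -2), (-3, 1), (-2, -2), (-1, -1), (-2, 1), (0, 0), (-2, 1), (1, 2), (-1, 0), (1, 0), (-1, 0), (1, 0), (0, 1), (-1, 0)],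
  [(30, -41), (46, -43), (31, -36), (14, -42), (16, -42), (-7, -22), (-8, -21), (-7, -6), (-5, -8), (-6, -7), (-5, 0), (-3, 1), (-5, -6), (-3, -2), (-4, -1), (-3, 0), (-4, -2), (-1, 1), (-3, 1), (0, 0), (-2, 1), (0, 1), (-1, 1), (0, 0), (0, 1), (1, 0), (0, 0), (0, 1)],
  [(-12, 27), (-26, 31), (-17, 25), (-5, 27), (-7, 27), (7, 12), (6, 13), (5, 3), (4, 5), (5, 4), (3, 0), (3, -2), (2, 5), (3, 1), (4, 1), (2, -1), (3, 0), (0, 1), (2, -1), (1, 0), (1, -2), (0, -1), (0, -1), (0, -1), (0, 0), (0, 0), (-1, 0), (0, 0)],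
  [(-67, 15), (-85, 1), (-63, 8), (-50, 30), (-51, 27), (-12, 29), (-10, 27), (1, 12), (-4, 12), (-3, 12), (5, 4), (4, 3), (0, 9), (2, 5), (2, 4), (4, 2), (1, 7), (1, -1), (3, 3), (0, -1), (3, 1), (1, 0), (2, 0), (1, 0), (1, -1), (0, 0), (0, -1), (0, 0)],
  [(-12, 24), (-20, 25), (-14, 20), (-4, 23), (-7, 24), (5, 11), (6, 11), (4, 3), (4, 4), (3, 2), (2, 0), (1, 0), (3, 4), (3, 0), (3, 1), (2, -1), (2, 1), (0, 0), (1, -1), (0, 0), (1, -1), (0, -1), (0, 0), (0, 0), (0, 0), (0, 0), (0, -1), (0, 0)],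
  [(-26, -48), (-20, -65), (-22, -45), (-35, -31), (-33, -32), (-25, -2), (-23, -2), (-9, 3), (-9, 0), (-9, 1), (-3, 5), (-1, 4), (-7, 3), (-3, 3), (-3, 3), (-1, 3), (-4, 2), (0, 1), (-1, 2), (0, 0), (0, 3), (1, 0), (1, 2), (0, 0), (1, 1), (0, 0), (1, 0), (0, 0)],
  [(25, 24), (26, 35), (20, 23), (27, 13), (27, 15), (15, -3), (16, -3), (5, -5), (5, -2), (4, -3), (0, -4), (-1, -1), (5, -3), (2, -2), (1, -3), (1, -3), (1, -1), (-1, -2), (0, -1), (0, -1), (-1, -1), (0, 1), (-1, 0), (1, 0), (-1, 0), (0, 1), (0, 0), (-1, 0)],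
  [(-2, -18), (7, -22), (1, -15), (-5, -14), (-3, -13), (-7, -3), (-5, -5), (-2, -1), (0, -3), (-4, -2), (-1, 1), (-2, 2), (0, -2), (-2, 0), (-2, -1), (-2, 0), (-2, 1), (1, -1), (-2, 1), (-1, 0), (-1, 2), (0, 1), (1, 1), (0, 1), (1, 0), (1, 0), (0, 0), (0, -1)],
  [(-33, -59), (-26, -80), (-27, -58), (-43, -40), (-40, -41), (-31, -3), (-28, -2), (-11, 4), (-14, 0), (-13, 2), (-3, 4), (-2, 4), (-9, 2), (-5, 4), (-4, 3), (-1, 4), (-6, 4), (1, 1), (-1, 4), (0, -1), (0, 4), (1, 1), (1, 2), (1, 0), (1, 1), (0, 0), (1, 0), (0, 0)],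
  [(22, -38), (35, -40), (25, -33), (8, -37), (11, -36), (-8, -18), (-8, -17), (-6, -5), (-5, -8), (-5, -6), (-3, 0), (-3, 0), (-4, -5), (-4, -1), (-3, -2), (-3, 2), (-4, -2), (1, 0), (-3, 1), (1, 0), (-2, 1), (-1, 1), (-1, 1), (0, 1), (0, 0), (0, 0), (0, 1), (0, 0)],
  [(-37, 1), (-45, -6), (-36, 1), (-31, 12), (-29, 12), (-9, 16), (-7, 13), (0, 6), (0, 6), (-1, 6), (2, 3), (2, 2), (0, 5), (0, 3), (1, 2), (1, 1), (1, 3), (1, 0), (1, 1), (0, 0), (1, 1), (0, 0), (2, 0), (0, 0), (1, 0), (1, 0), (0, 0), (0, -1)],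
  [(-53, -9), (-64, -23), (-49, -12), (-47, 7), (-48, 4), (-17, 17), (-17, 18), (-3, 10), (-5, 9), (-3, 9), (2, 5), (3, 2), (-4, 8), (0, 4), (1, 5), (2, 3), (0, 4), (1, 1), (2, 2), (0, 0), (2, 1), (1, -1), (1, 0), (0, 0), (1, 0), (0, -1), (0, 0), (1, 0)],
  [(18, 13), (22, 16), (19, 12), (20, 4), (20, 4), (10, -4), (8, -5), (1, -3), (2, -4), (2, -2), (0, -2), (0, -1), (3, -5), (0, -2), (-1, -2), (-1, -1), (1, 0), (-1, -1), (0, 0), (-1, 0), (1, 0), (0, 0), (0, -1), (0, 1), (0, -1), (0, -1), (0, 0), (-1, 0)],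
  [(8, 62), (-4, 79), (4, 59), (24, 50), (20, 51), (25, 13), (24, 13), (11, 0), (12, 3), (12, 1), (5, -3), (2, -4), (10, 2), (5, -2), (5, -2), (2, -3), (5, -2), (0, -1), (2, -3), (0, 1), (1, -3), (-1, -1), (0, -2), (-1, 0), (0, -1), (-1, 0), (0, 0), (0, -1)],
  [(-58, 23), (-77, 15), (-55, 18), (-41, 35), (-43, 31), (-6, 27), (-6, 27), (3, 11), (-1, 12), (1, 11), (5, 3), (4, 1), (0, 9), (3, 5), (3, 4), (4, 2), (2, 5), (1, 0), (3, 1), (0, 0), (3, 0), (1, -1), (1, -1), (0, 0), (1, -1), (0, 0), (0, -1), (0, 0)],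
  [(-15, -30), (-9, -39), (-11, -29), (-20, -20), (-18, -22), (-15, -3), (-14, -2), (-6, 1), (-7, 1), (-6, 1), (-2, 2), (-1, 3), (-5, 1), (-2, 2), (-2, 2), (0, 2), (-3, 2), (0, 0), (0, 2), (0, 0), (0, 2), (1, 1), (0, 1), (0, 0), (0, 0), (0, 0), (1, 0), (0, 0)]]
def cRjL : List (List (ℤ × ℤ)) := [[(0, 0), (1, 0), (0, 0), (0, 0), (0, 0), (0, 0), (0, 0), (0, 0), (0, 0), (0, 0), (0, 0), (0, 0), (0, 0), (0, 0), (0, 0), (0, 0), (0, 0), (0, 0), (0, 0), (0, 0), (0, 0), (0, 0), (0, 0), (0, 0), (0, 0), (0, 0), (0, 0), (0, 0)],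
  [(-1, 0), (0, 0), (0, 0), (0, 0), (0, 0), (0, 0), (0, 0), (0, 0), (0, 0), (0, 0), (0, 0), (0, 0), (0, 0), (0, 0), (0, 0), (0, 0), (0, 0), (0, 0), (0, 0), (0, 0), (0, 0), (0, 0), (0, 0), (0, 0), (0, 0), (0, 0), (0, 0), (0, 0)],
  [(1, 0), (1, 0), (1, 0), (1, -1), (0, 0), (0, 0), (0, 0), (0, 0), (0, 0), (0, 0), (0, 0), (0, 0), (0, 0), (0, 0), (0, 0), (0, 0), (0, 0), (0, 0), (0, 0), (0, 0), (0, 0), (0, 0), (0, 0), (0, 0), (0, 0), (0, 0), (0, 0), (0, 0)],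
  [(0, 0), (-1, -1), (-1, -1), (-1, 0), (0, 0), (0, 0), (0, 0), (0, 0), (0, 0), (0, 0), (0, 0), (0, 0), (0, 0), (0, 0), (0, 0), (0, 0), (0, 0), (0, 0), (0, 0), (0, 0), (0, 0), (0, 0), (0, 0), (0, 0), (0, 0), (0, 0), (0, 0), (0, 0)],
  [(-1, 0), (-1, -1), (-1, 0), (-1, 0), (-1, 0), (-1, 1), (0, 0), (0, 0), (0, 0), (0, 0), (0, 0), (0, 0), (0, 0), (0, 0), (0, 0), (0, 0), (0, 0), (0, 0), (0, 0), (0, 0), (0, 0), (0, 0), (0, 0), (0, 0), (0, 0), (0, 0), (0, 0), (0, 0)],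
  [(0, 1), (-1, 1), (0, 1), (0, 1), (1, 1), (1, 0), (0, 0), (0, 0), (0, 0), (0, 0), (0, 0), (0, 0), (0, 0), (0, 0), (0, 0), (0, 0), (0, 0), (0, 0), (0, 0), (0, 0), (0, 0), (0, 0), (0, 0), (0, 0), (0, 0), (0, 0), (0, 0), (0, 0)],
  [(2, 2), (1, 2), (1, 2), (1, 1), (2, 2), (2, 0), (1, 0), (1, -1), (0, 0), (0, 0), (0, 0), (0, 0), (0, 0), (0, 0), (0, 0), (0, 0), (0, 0), (0, 0), (0, 0), (0, 0), (0, 0), (0, 0), (0, 0), (0, 0), (0, 0), (0, 0), (0, 0), (0, 0)],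
  [(1, -1), (0, -2), (1, -1), (0, -1), (0, -2), (0, 0), (-1, -1), (-1, 0), (0, 0), (0, 0), (0, 0), (0, 0), (0, 0), (0, 0), (0, 0), (0, 0), (0, 0), (0, 0), (0, 0), (0, 0), (0, 0), (0, 0), (0, 0), (0, 0), (0, 0), (0, 0), (0, 0), (0, 0)],
  [(0, 0), (0, 1), (0, 1), (0, 0), (0, 0), (0, 0), (0, 0), (0, 0), (0, 1), (1, 1), (0, 0), (0, 0), (0, 0), (0, 0), (0, 0), (0, 0), (0, 0), (0, 0), (0, 0), (0, 0), (0, 0), (0, 0), (0, 0), (0, 0), (0, 0), (0, 0), (0, 0), (0, 0)],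
  [(0, 0), (0, -1), (0, -1), (-1, 0), (0, 0), (0, 0), (0, 0), (0, 0), (0, 0), (0, -1), (0, 0), (0, 0), (0, 0), (0, 0), (0, 0), (0, 0), (0, 0), (0, 0), (0, 0), (0, 0), (0, 0), (0, 0), (0, 0), (0, 0), (0, 0), (0, 0), (0, 0), (0, 0)],
  [(-3, -2), (-3, -4), (-3, -1), (-3, 0), (-1, -1), (-1, 1), (-1, 0), (-1, 0), (0, 0), (-1, 0), (0, 1), (1, 1), (0, 0), (0, 0), (0, 0), (0, 0), (0, 0), (0, 0), (0, 0), (0, 0), (0, 0), (0, 0), (0, 0), (0, 0), (0, 0), (0, 0), (0, 0), (0, 0)],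
  [(1, 0), (1, 1), (1, 0), (1, 0), (1, -1), (1, -1), (0, 0), (0, 0), (0, 0), (0, 0), (0, 0), (0, -1), (0, 0), (0, 0), (0, 0), (0, 0), (0, 0), (0, 0), (0, 0), (0, 0), (0, 0), (0, 0), (0, 0), (0, 0), (0, 0), (0, 0), (0, 0), (0, 0)],
  [(0, -5), (0, -5), (0, -3), (-2, -3), (-1, -4), (-1, -1), (-2, -1), (-1, 0), (0, 0), (0, 0), (0, 0), (0, 0), (-1, 0), (-1, 1), (0, 0), (0, 0), (0, 0), (0, 0), (0, 0), (0, 0), (0, 0), (0, 0), (0, 0), (0, 0), (0, 0), (0, 0), (0, 0), (0, 0)],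
  [(-3, 2), (-3, 1), (-2, 2), (-1, 3), (-1, 1), (0, 1), (0, 1), (-1, 0), (0, 0), (0, 0), (0, 0), (0, 0), (1, 1), (1, 0), (0, 0), (0, 0), (0, 0), (0, 0), (0, 0), (0, 0), (0, 0), (0, 0), (0, 0), (0, 0), (0, 0), (0, 0), (0, 0), (0, 0)],
  [(1, -4), (0, -6), (2, -4), (0, -4), (0, -5), (-1, -1), (-2, -2), (-2, 0), (-1, -1), (-1, 0), (0, 0), (0, 0), (-1, -1), (0, 0), (-1, 0), (-1, 1), (0, 0), (0, 0), (0, 0), (0, 0), (0, 0), (0, 0), (0, 0), (0, 0), (0, 0), (0, 0), (0, 0), (0, 0)],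
  [(-7, 2), (-8, 2), (-6, 1), (-5, 4), (-6, 3), (-1, 2), (-1, 4), (0, 1), (1, 1), (1, 0), (0, 0), (0, 0), (0, 2), (1, 1), (1, 1), (1, 0), (0, 0), (0, 0), (0, 0), (0, 0), (0, 0), (0, 0), (0, 0), (0, 0), (0, 0), (0, 0), (0, 0), (0, 0)],
  [(-19, -1), (-23, -4), (-17, -1), (-15, 5), (-15, 3), (-5, 6), (-4, 7), (0, 4), (0, 3), (-1, 2), (1, 1), (0, 0), (-1, 3), (0, 2), (1, 1), (1, 1), (0, 1), (2, 0), (0, 0), (0, 0), (0, 0), (0, 0), (0, 0), (0, 0), (0, 0), (0, 0), (0, 0), (0, 0)],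
  [(-2, 14), (-2, 17), (0, 12), (4, 12), (3, 11), (5, 3), (5, 4), (2, 0), (3, 0), (2, -1), (1, -1), (0, -1), (3, 1), (2, 0), (1, -1), (1, -1), (0, 0), (0, -1), (0, 0), (0, 0), (0, 0), (0, 0), (0, 0), (0, 0), (0, 0), (0, 0), (0, 0), (0, 0)],
  [(20, -13), (27, -15), (20, -12), (12, -17), (12, -17), (0, -10), (-2, -11), (-3, -4), (1, -5), (0, -4), (-2, 0), (-1, 1), (-2, -4), (-1, -1), (-2, 0), (-2, 0), (0, -2), (-2, 0), (-1, 0), (0, 2), (0, 0), (0, 0), (0, 0), (0, 0), (0, 0), (0, 0), (0, 0), (0, 0)],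
  [(-18, -7), (-21, -11), (-16, -7), (-16, 0), (-16, -1), (-7, 4), (-6, 6), (-1, 3), (-3, 2), (-2, 2), (1, 1), (0, 0), (-2, 3), (0, 2), (1, 1), (1, 1), (-1, 1), (1, 1), (0, 1), (1, 0), (0, 0), (0, 0), (0, 0), (0, 0), (0, 0), (0, 0), (0, 0), (0, 0)],
  [(-14, 40), (-28, 47), (-15, 38), (0, 38), (-3, 37), (11, 16), (12, 15), (7, 3), (6, 4), (6, 3), (4, -1), (2, -2), (6, 5), (4, 0), (4, -1), (3, -1), (2, 0), (1, -1), (1, -1), (1, -1), (0, -1), (-1, -1), (0, 0), (0, 0), (0, 0), (0, 0), (0, 0), (0, 0)],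
  [(-15, 3), (-19, 3), (-13, 2), (-11, 8), (-11, 7), (-2, 6), (-2, 7), (1, 2), (-1, 2), (-1, 1), (2, 0), (0, 0), (0, 3), (1, 2), (1, 0), (2, 1), (-1, 1), (1, -1), (0, 1), (1, -1), (0, 0), (0, 1), (0, 0), (0, 0), (0, 0), (0, 0), (0, 0), (0, 0)],
  [(52, 0), (68, 12), (53, 2), (46, -15), (45, -13), (14, -20), (12, -20), (0, -10), (3, -11), (1, -10), (-2, -4), (-4, -2), (4, -8), (0, -5), (-2, -5), (-3, -2), (-2, -4), (-1, -1), (-3, -1), (0, 0), (-2, 0), (-1, 1), (-1, 0), (-1, 1), (0, 0), (0, 0), (0, 0), (0, 0)],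
  [(-26, -28), (-26, -41), (-22, -30), (-28, -17), (-27, -18), (-17, 2), (-16, 3), (-6, 4), (-9, 1), (-8, 3), (0, 2), (0, 3), (-5, 2), (-2, 2), (-2, 2), (1, 3), (-3, 3), (0, 0), (0, 3), (1, -1), (0, 2), (1, 1), (1, 1), (1, 0), (0, 0), (0, 0), (0, 0), (0, 0)],
  [(-41, 16), (-56, 8), (-37, 9), (-29, 23), (-30, 20), (-4, 18), (-5, 19), (1, 8), (-3, 6), (-1, 7), (4, 2), (3, 0), (0, 6), (2, 3), (2, 3), (3, 2), (1, 3), (1, 0), (2, 2), (1, 0), (2, 0), (0, 0), (1, -1), (1, 0), (0, -1), (-1, -1), (0, 0), (0, 0)],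
  [(11, -27), (18, -32), (10, -27), (0, -27), (2, -25), (-8, -10), (-7, -10), (-4, -2), (-4, -4), (-5, -3), (-2, 0), (-2, 2), (-4, -4), (-3, 0), (-3, 0), (-1, 1), (-2, 0), (-1, 0), (-1, 1), (0, 0), (-1, 1), (0, 1), (0, 1), (1, 0), (0, 0), (0, 1), (0, 0), (0, 0)],
  [(-3, -54), (6, -64), (-1, -52), (-18, -44), (-15, -45), (-21, -13), (-20, -11), (-9, 1), (-10, -2), (-10, -2), (-3, 2), (-3, 2), (-8, -2), (-5, 1), (-4, 1), (-1, 3), (-5, 1), (1, 1), (-2, 2), (0, -1), (-2, 2), (0, 2), (0, 2), (1, 0), (0, 1), (0, 1), (0, 0), (1, 0)],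
  [(5, 3), (3, 4), (3, 0), (4, 0), (4, 0), (2, -2), (2, 0), (2, 0), (0, 0), (0, -1), (1, -2), (0, -1), (-1, -1), (0, 0), (0, -1), (1, 0), (0, 0), (0, 0), (0, 0), (1, -1), (-1, -1), (0, 1), (-1, 0), (1, 0), (-1, 0), (0, 1), (-1, 0), (0, 0)]]
def cRkL : List (List (ℤ × ℤ)) := [[(0, 0), (0, 0), (1, 0), (0, 0), (0, 0), (0, 0), (0, 0), (0, 0), (0, 0), (0, 0), (0, 0), (0, 0), (0, 0), (0, 0), (0, 0), (0, 0), (0, 0), (0, 0), (0, 0), (0, 0), (0, 0), (0, 0), (0, 0), (0, 0), (0, 0), (0, 0), (0, 0), (0, 0)],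
  [(-1, 0), (-1, 0), (-1, 0), (-1, 1), (0, 0), (0, 0), (0, 0), (0, 0), (0, 0), (0, 0), (0, 0), (0, 0), (0, 0), (0, 0), (0, 0), (0, 0), (0, 0), (0, 0), (0, 0), (0, 0), (0, 0), (0, 0), (0, 0), (0, 0), (0, 0), (0, 0), (0, 0), (0, 0)],
  [(-1, 0), (0, 0), (0, 0), (0, 0), (0, 0), (0, 0), (0, 0), (0, 0), (0, 0), (0, 0), (0, 0), (0, 0), (0, 0), (0, 0), (0, 0), (0, 0), (0, 0), (0, 0), (0, 0), (0, 0), (0, 0), (0, 0), (0, 0), (0, 0), (0, 0), (0, 0), (0, 0), (0, 0)],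
  [(1, 1), (1, 1), (0, 0), (1, 0), (0, 0), (0, 0), (0, 0), (0, 0), (0, 0), (0, 0), (0, 0), (0, 0), (0, 0), (0, 0), (0, 0), (0, 0), (0, 0), (0, 0), (0, 0), (0, 0), (0, 0), (0, 0), (0, 0), (0, 0), (0, 0), (0, 0), (0, 0), (0, 0)],
  [(1, -1), (1, -1), (1, -1), (0, -1), (0, -1), (0, 0), (-1, -1), (0, 0), (0, 0), (0, 0), (0, 0), (0, 0), (0, 0), (0, 0), (0, 0), (0, 0), (0, 0), (0, 0), (0, 0), (0, 0), (0, 0), (0, 0), (0, 0), (0, 0), (0, 0), (0, 0), (0, 0), (0, 0)],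
  [(1, -1), (1, -1), (0, 0), (1, 0), (1, -1), (0, -1), (0, 0), (-1, -1), (0, 0), (0, 0), (0, 0), (0, 0), (0, 0), (0, 0), (0, 0), (0, 0), (0, 0), (0, 0), (0, 0), (0, 0), (0, 0), (0, 0), (0, 0), (0, 0), (0, 0), (0, 0), (0, 0), (0, 0)],
  [(-1, 1), (-1, 0), (-1, 0), (0, 1), (0, 0), (0, 0), (0, 1), (0, 0), (0, 0), (0, 0), (0, 0), (0, 0), (0, 0), (0, 0), (0, 0), (0, 0), (0, 0), (0, 0), (0, 0), (0, 0), (0, 0), (0, 0), (0, 0), (0, 0), (0, 0), (0, 0), (0, 0), (0, 0)],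
  [(-1, 0), (-1, 0), (-1, -1), (0, 0), (-2, 0), (0, 0), (-1, 1), (0, 1), (0, 0), (0, 0), (0, 0), (0, 0), (0, 0), (0, 0), (0, 0), (0, 0), (0, 0), (0, 0), (0, 0), (0, 0), (0, 0), (0, 0), (0, 0), (0, 0), (0, 0), (0, 0), (0, 0), (0, 0)],
  [(-4, 2), (-5, 2), (-3, 2), (-2, 3), (-3, 3), (0, 2), (0, 2), (1, 1), (1, 0), (0, 0), (2, 0), (0, 0), (0, 0), (0, 0), (0, 0), (0, 0), (0, 0), (0, 0), (0, 0), (0, 0), (0, 0), (0, 0), (0, 0), (0, 0), (0, 0), (0, 0), (0, 0), (0, 0)],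
  [(8, 1), (10, 2), (6, -1), (6, -3), (5, -1), (1, -3), (2, -2), (0, -2), (-1, -1), (0, -1), (-2, -2), (-2, 0), (0, 0), (0, 0), (0, 0), (0, 0), (0, 0), (0, 0), (0, 0), (0, 0), (0, 0), (0, 0), (0, 0), (0, 0), (0, 0), (0, 0), (0, 0), (0, 0)],
  [(1, -2), (2, -3), (1, -2), (0, -2), (0, -3), (-1, -1), (-1, -1), (-1, 0), (-1, 0), (0, 0), (-1, 0), (0, 0), (0, 0), (0, 0), (0, 0), (0, 0), (0, 0), (0, 0), (0, 0), (0, 0), (0, 0), (0, 0), (0, 0), (0, 0), (0, 0), (0, 0), (0, 0), (0, 0)],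
  [(-2, -3), (-1, -5), (-2, -3), (-3, -2), (-2, -2), (-2, 0), (-1, 0), (-1, 1), (0, 1), (0, 0), (-1, 1), (0, 1), (0, 0), (0, 0), (0, 0), (0, 0), (0, 0), (0, 0), (0, 0), (0, 0), (0, 0), (0, 0), (0, 0), (0, 0), (0, 0), (0, 0), (0, 0), (0, 0)],
  [(-2, -2), (-2, -3), (-1, -3), (-2, -2), (-4, -2), (-1, 0), (-2, 1), (0, 1), (0, 0), (0, 0), (0, 0), (0, 0), (-1, 0), (0, 0), (-1, 1), (0, 0), (0, 0), (0, 0), (0, 0), (0, 0), (0, 0), (0, 0), (0, 0), (0, 0), (0, 0), (0, 0), (0, 0), (0, 0)],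
  [(-4, 7), (-5, 8), (-5, 6), (-1, 8), (-3, 8), (1, 3), (2, 4), (1, 1), (1, 1), (1, 0), (0, 0), (0, 0), (2, 2), (1, 0), (2, 0), (1, -1), (0, 0), (0, 0), (0, 0), (0, 0), (0, 0), (0, 0), (0, 0), (0, 0), (0, 0), (0, 0), (0, 0), (0, 0)],
  [(-2, 1), (-2, 1), (-3, 1), (-1, 2), (-2, 3), (0, 1), (0, 2), (0, 0), (0, 0), (0, 0), (0, 0), (0, 0), (1, 1), (0, 0), (1, 0), (0, 0), (0, 0), (0, 0), (0, 0), (0, 0), (0, 0), (0, 0), (0, 0), (0, 0), (0, 0), (0, 0), (0, 0), (0, 0)],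
  [(3, 0), (4, -2), (2, 0), (3, -2), (3, -1), (0, -1), (1, -2), (0, 0), (0, -1), (-1, 0), (0, 0), (1, 1), (0, -2), (-1, -1), (0, 0), (-1, 0), (0, 0), (0, 0), (0, 0), (0, 0), (0, 0), (0, 0), (0, 0), (0, 0), (0, 0), (0, 0), (0, 0), (0, 0)],
  [(1, -4), (3, -5), (1, -2), (0, -2), (1, -3), (-1, -1), (-1, -2), (-1, 0), (1, -1), (0, -1), (-1, 1), (1, 1), (0, 0), (0, 0), (0, 0), (0, 0), (0, -1), (0, 0), (-1, -1), (0, 0), (0, 0), (0, 0), (0, 0), (0, 0), (0, 0), (0, 0), (0, 0), (0, 0)],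
  [(19, -7), (27, -8), (18, -6), (14, -12), (15, -11), (1, -9), (2, -10), (-2, -4), (0, -4), (-1, -3), (-3, -1), (-1, 1), (0, -4), (-1, -1), (-1, -1), (-2, -1), (0, -1), (-1, 0), (-1, 0), (-1, 1), (0, 0), (0, 0), (0, 0), (0, 0), (0, 0), (0, 0), (0, 0), (0, 0)],
  [(-4, 1), (-5, -1), (-4, 0), (-2, 1), (-3, 1), (-1, 2), (-1, 1), (0, 1), (-1, 0), (-1, 1), (0, 0), (1, 1), (0, 0), (0, 0), (0, 0), (0, 0), (0, 0), (0, 0), (0, 1), (0, 0), (0, 0), (0, 0), (0, 0), (0, 0), (0, 0), (0, 0), (0, 0), (0, 0)],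
  [(-15, -14), (-18, -19), (-13, -13), (-17, -6), (-16, -8), (-8, 2), (-9, 3), (-2, 3), (-2, 1), (-2, 1), (1, 2), (1, 0), (-4, 2), (-1, 2), (0, 2), (0, 2), (-1, 0), (1, 1), (0, 0), (1, 0), (0, 0), (0, 0), (0, 0), (0, 0), (0, 0), (0, 0), (0, 0), (0, 0)],
  [(12, -4), (17, -2), (13, -3), (11, -6), (9, -5), (2, -6), (2, -4), (0, -2), (1, -4), (-1, -4), (0, -1), (-1, -1), (1, -2), (0, -1), (0, -2), (-1, -1), (-2, -1), (0, 0), (-1, 0), (0, 0), (-1, 0), (0, 0), (-1, 1), (0, 0), (0, 0), (0, 0), (0, 0), (0, 0)],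
  [(-2, 27), (-8, 33), (-4, 27), (6, 24), (6, 25), (10, 8), (10, 7), (4, -1), (4, 2), (4, 2), (1, -1), (2, -1), (5, 3), (3, 0), (3, 0), (1, -2), (2, 0), (0, 0), (1, -1), (0, 0), (1, -1), (0, -1), (1, -1), (-1, -1), (0, 0), (0, 0), (0, 0), (0, 0)],
  [(-15, -13), (-14, -21), (-13, -14), (-15, -7), (-14, -7), (-9, 2), (-8, 2), (-4, 2), (-5, 1), (-4, 2), (-1, 2), (0, 2), (-1, 1), (-1, 1), (0, 1), (0, 1), (-1, 2), (0, 0), (0, 2), (0, 0), (1, 1), (0, 0), (1, 0), (0, 0), (0, 0), (0, 0), (0, 0), (0, 0)],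
  [(1, -10), (6, -14), (3, -11), (0, -10), (0, -10), (-4, -4), (-3, -3), (-3, 0), (-2, -1), (-2, -1), (-1, 0), (-1, 0), (0, -2), (-1, 0), (-1, -1), (-1, 0), (-1, 1), (0, 0), (0, 1), (0, 0), (0, 0), (0, 0), (0, 0), (0, 1), (0, 0), (0, 0), (0, 0), (0, 0)],
  [(-59, -31), (-64, -54), (-53, -33), (-56, -9), (-55, -12), (-27, 14), (-25, 14), (-8, 10), (-10, 7), (-9, 7), (0, 7), (2, 5), (-6, 7), (-1, 5), (0, 5), (1, 4), (-3, 5), (1, 1), (1, 3), (1, 0), (2, 2), (1, 0), (2, 1), (0, 0), (1, 0), (0, 0), (1, -1), (0, 0)],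
  [(7, 37), (1, 44), (6, 34), (18, 26), (16, 27), (15, 7), (15, 5), (6, 1), (7, 1), (5, 1), (3, -2), (2, -2), (7, -2), (2, -2), (2, -3), (0, -2), (3, 0), (1, -1), (1, -1), (0, 0), (0, -2), (-1, 0), (0, -1), (0, 1), (0, -1), (0, 0), (-1, 0), (0, -1)],
  [(23, 28), (23, 36), (22, 27), (29, 15), (28, 16), (16, -2), (16, -3), (4, -2), (7, -2), (5, -2), (2, -3), (1, -2), (6, -5), (1, -3), (1, -4), (-1, -2), (3, -1), (0, -1), (0, -2), (0, 0), (0, -2), (-1, 0), (0, -1), (0, 1), (-1, -1), (0, 0), (-1, 0), (0, 0)],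
  [(-32, 42), (-51, 43), (-33, 37), (-15, 44), (-16, 42), (8, 22), (7, 22), (6, 6), (4, 8), (5, 8), (5, 0), (5, -1), (4, 7), (4, 2), (5, 2), (3, 0), (4, 2), (1, 0), (3, 0), (1, 0), (2, -2), (0, -1), (1, -2), (0, 0), (0, -1), (0, -1), (-1, 0), (0, 0)]]
def cSgL : List (List (ℤ × ℤ)) := [[(-1, 0), (0, 0), (0, 0), (0, 0), (0, 0), (0, 0), (0, 0), (0, 0), (0, 0), (0, 0), (0, 0), (0, 0), (0, 0), (0, 0), (0, 0), (0, 0), (0, 0), (0, 0), (0, 0), (0, 0), (0, 0), (0, 0), (0, 0), (0, 0), (0, 0), (0, 0), (0, 0), (0, 0)],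
  [(0, 0), (-1, 0), (0, 0), (0, 0), (0, 0), (0, 0), (0, 0), (0, 0), (0, 0), (0, 0), (0, 0), (0, 0), (0, 0), (0, 0), (0, 0), (0, 0), (0, 0), (0, 0), (0, 0), (0, 0), (0, 0), (0, 0), (0, 0), (0, 0), (0, 0), (0, 0), (0, 0), (0, 0)],
  [(0, 0), (0, 0), (-1, 0), (0, 0), (0, 0), (0, 0), (0, 0), (0, 0), (0, 0), (0, 0), (0, 0), (0, 0), (0, 0), (0, 0), (0, 0), (0, 0), (0, 0), (0, 0), (0, 0), (0, 0), (0, 0), (0, 0), (0, 0), (0, 0), (0, 0), (0, 0), (0, 0), (0, 0)],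
  [(0, 0), (0, 0), (0, 0), (-1, 0), (0, 0), (0, 0), (0, 0), (0, 0), (0, 0), (0, 0), (0, 0), (0, 0), (0, 0), (0, 0), (0, 0), (0, 0), (0, 0), (0, 0), (0, 0), (0, 0), (0, 0), (0, 0), (0, 0), (0, 0), (0, 0), (0, 0), (0, 0), (0, 0)],
  [(0, 0), (0, 0), (0, 0), (0, 0), (1, 0), (0, 0), (0, 0), (0, 0), (0, 0), (0, 0), (0, 0), (0, 0), (0, 0), (0, 0), (0, 0), (0, 0), (0, 0), (0, 0), (0, 0), (0, 0), (0, 0), (0, 0), (0, 0), (0, 0), (0, 0), (0, 0), (0, 0), (0, 0)],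
  [(1, 1), (0, 2), (1, 1), (1, 1), (0, 0), (1, 0), (0, 0), (0, 0), (0, 0), (0, 0), (0, 0), (0, 0), (0, 0), (0, 0), (0, 0), (0, 0), (0, 0), (0, 0), (0, 0), (0, 0), (0, 0), (0, 0), (0, 0), (0, 0), (0, 0), (0, 0), (0, 0), (0, 0)],
  [(0, 2), (0, 2), (0, 2), (1, 1), (0, 0), (0, 0), (1, 0), (0, 0), (0, 0), (0, 0), (0, 0), (0, 0), (0, 0), (0, 0), (0, 0), (0, 0), (0, 0), (0, 0), (0, 0), (0, 0), (0, 0), (0, 0), (0, 0), (0, 0), (0, 0), (0, 0), (0, 0), (0, 0)],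
  [(1, 1), (1, 1), (0, 0), (0, 0), (0, 0), (0, 0), (0, 0), (1, 0), (0, 0), (0, 0), (0, 0), (0, 0), (0, 0), (0, 0), (0, 0), (0, 0), (0, 0), (0, 0), (0, 0), (0, 0), (0, 0), (0, 0), (0, 0), (0, 0), (0, 0), (0, 0), (0, 0), (0, 0)],
  [(0, 0), (0, 0), (0, 0), (0, 0), (0, 0), (0, 0), (0, 0), (0, 0), (1, 0), (0, 0), (0, 0), (0, 0), (0, 0), (0, 0), (0, 0), (0, 0), (0, 0), (0, 0), (0, 0), (0, 0), (0, 0), (0, 0), (0, 0), (0, 0), (0, 0), (0, 0), (0, 0), (0, 0)],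
  [(0, 0), (1, 1), (1, 1), (0, 0), (0, 0), (0, 0), (0, 0), (0, 0), (0, 0), (1, 0), (0, 0), (0, 0), (0, 0), (0, 0), (0, 0), (0, 0), (0, 0), (0, 0), (0, 0), (0, 0), (0, 0), (0, 0), (0, 0), (0, 0), (0, 0), (0, 0), (0, 0), (0, 0)],
  [(-1, 0), (-1, 1), (0, 1), (0, 1), (0, 0), (0, 0), (0, 0), (0, 0), (0, 0), (0, 0), (1, 0), (0, 0), (0, 0), (0, 0), (0, 0), (0, 0), (0, 0), (0, 0), (0, 0), (0, 0), (0, 0), (0, 0), (0, 0), (0, 0), (0, 0), (0, 0), (0, 0), (0, 0)],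
  [(-1, 1), (-1, 0), (0, 1), (0, 1), (0, 0), (0, 0), (0, 0), (0, 0), (0, 0), (0, 0), (0, 0), (1, 0), (0, 0), (0, 0), (0, 0), (0, 0), (0, 0), (0, 0), (0, 0), (0, 0), (0, 0), (0, 0), (0, 0), (0, 0), (0, 0), (0, 0), (0, 0), (0, 0)],
  [(1, -2), (2, -2), (1, -2), (0, -2), (-1, -3), (-1, -1), (-1, -1), (0, 0), (0, 0), (0, 0), (0, 0), (0, 0), (-1, 0), (0, 0), (0, 0), (0, 0), (0, 0), (0, 0), (0, 0), (0, 0), (0, 0), (0, 0), (0, 0), (0, 0), (0, 0), (0, 0), (0, 0), (0, 0)],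
  [(1, -2), (2, -2), (1, -2), (0, -2), (0, -2), (-1, -1), (-1, -1), (0, 0), (0, 0), (0, 0), (0, 0), (0, 0), (0, 0), (-1, 0), (0, 0), (0, 0), (0, 0), (0, 0), (0, 0), (0, 0), (0, 0), (0, 0), (0, 0), (0, 0), (0, 0), (0, 0), (0, 0), (0, 0)],
  [(1, -1), (1, -1), (1, -1), (0, -1), (0, -2), (0, 0), (-1, -1), (0, 0), (0, 0), (0, 0), (0, 0), (0, 0), (0, 0), (0, 0), (-1, 0), (0, 0), (0, 0), (0, 0), (0, 0), (0, 0), (0, 0), (0, 0), (0, 0), (0, 0), (0, 0), (0, 0), (0, 0), (0, 0)],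
  [(1, -3), (2, -4), (1, -3), (0, -2), (0, -2), (-1, -1), (-1, -1), (-1, -1), (0, -2), (-1, -1), (0, 0), (0, 0), (0, 0), (0, 0), (0, 0), (-1, 0), (0, 0), (0, 0), (0, 0), (0, 0), (0, 0), (0, 0), (0, 0), (0, 0), (0, 0), (0, 0), (0, 0), (0, 0)],
  [(0, 1), (-1, 1), (-1, 0), (0, 1), (0, 0), (0, 0), (0, 0), (0, 0), (0, 0), (0, 0), (0, 0), (0, 0), (0, 0), (0, 0), (0, 0), (0, 0), (1, 0), (0, 0), (0, 0), (0, 0), (0, 0), (0, 0), (0, 0), (0, 0), (0, 0), (0, 0), (0, 0), (0, 0)],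
  [(-11, -2), (-13, -2), (-10, -1), (-10, 3), (-9, 2), (-3, 3), (-3, 4), (0, 1), (-1, 1), (0, 1), (0, 0), (0, 0), (-1, 3), (0, 2), (1, 1), (1, 1), (0, 0), (1, 0), (0, 0), (0, 0), (0, 0), (0, 0), (0, 0), (0, 0), (0, 0), (0, 0), (0, 0), (0, 0)],
  [(1, 1), (1, 1), (0, 0), (0, 0), (0, 0), (0, 0), (0, 0), (0, 0), (0, 0), (0, 0), (0, 0), (0, 0), (0, 0), (0, 0), (0, 0), (0, 0), (0, 0), (0, 0), (1, 0), (0, 0), (0, 0), (0, 0), (0, 0), (0, 0), (0, 0), (0, 0), (0, 0), (0, 0)],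
  [(-8, 1), (-11, 0), (-8, -1), (-7, 3), (-8, 3), (-2, 3), (-2, 4), (0, 1), (-1, 1), (0, 1), (0, 0), (0, 0), (-1, 3), (1, 1), (1, 1), (1, 1), (0, 0), (0, 0), (0, 0), (1, 0), (0, 0), (0, 0), (0, 0), (0, 0), (0, 0), (0, 0), (0, 0), (0, 0)],
  [(9, 3), (11, 7), (8, 3), (8, 0), (7, 0), (3, -3), (3, -2), (2, -2), (2, -3), (1, -2), (0, -2), (-1, -1), (0, 0), (0, 0), (0, 0), (0, 0), (0, -2), (0, 0), (-1, -1), (0, 0), (-1, 0), (0, 0), (0, 0), (0, 0), (0, 0), (0, 0), (0, 0), (0, 0)],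
  [(12, 2), (14, 6), (11, 3), (9, -1), (9, 0), (4, -3), (3, -4), (1, -3), (1, -3), (2, -3), (-1, -1), (-1, -1), (0, 0), (0, 0), (0, 0), (0, 0), (0, -2), (0, 0), (-1, -1), (0, 0), (0, 0), (-1, 0), (0, 0), (0, 0), (0, 0), (0, 0), (0, 0), (0, 0)],
  [(8, -1), (11, 2), (8, -1), (6, -3), (5, -3), (2, -4), (1, -2), (0, -2), (0, -1), (1, -2), (-1, -1), (-1, -1), (0, 0), (0, 0), (0, 0), (0, 0), (-1, -1), (0, 0), (0, 0), (0, 0), (0, 0), (0, 0), (-1, 0), (0, 0), (0, 0), (0, 0), (0, 0), (0, 0)],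
  [(12, -5), (16, -1), (12, -3), (8, -6), (8, -6), (2, -6), (0, -5), (-1, -3), (0, -2), (1, -2), (-1, -1), (-1, -1), (0, 0), (0, 0), (0, 0), (0, 0), (-1, -1), (0, 0), (-1, -1), (0, 0), (0, 0), (0, 0), (0, 0), (-1, 0), (0, 0), (0, 0), (0, 0), (0, 0)],
  [(14, 9), (17, 13), (13, 8), (14, 3), (13, 3), (6, -3), (6, -4), (1, -3), (2, -2), (2, -2), (-1, -2), (0, 0), (2, -1), (1, -1), (0, -1), (0, -1), (1, -1), (-1, -1), (0, -1), (0, 0), (0, 0), (0, 0), (0, 0), (0, 0), (-1, 0), (0, 0), (0, 0), (0, 0)],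
  [(4, -2), (6, -1), (4, -3), (3, -3), (2, -2), (0, -3), (0, -1), (0, -1), (-2, -2), (-1, -1), (0, -1), (-1, -1), (0, 0), (0, 0), (0, 0), (0, 0), (-1, 0), (0, 0), (0, 0), (0, 0), (0, 0), (0, 0), (0, 0), (0, 0), (0, 0), (-1, 0), (0, 0), (0, 0)],
  [(6, -2), (7, -1), (5, -2), (4, -3), (4, -3), (1, -3), (0, -3), (0, -2), (-1, -2), (-1, 0), (-1, -1), (0, 0), (0, 0), (0, 0), (0, 0), (0, 0), (0, 0), (0, 0), (-1, 0), (0, 0), (0, 0), (0, 0), (0, 0), (0, 0), (0, 0), (0, 0), (-1, 0), (0, 0)],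
  [(18, 11), (21, 17), (17, 10), (18, 4), (17, 6), (9, -4), (8, -4), (2, -5), (2, -5), (2, -3), (-1, -3), (-1, -1), (2, -1), (1, -1), (0, -1), (0, -1), (0, -1), (-1, -1), (-1, -1), (0, 0), (0, 0), (0, 0), (0, 0), (0, 0), (0, 0), (0, 0), (0, 0), (-1, 0)]]
def cShL : List (List (ℤ × ℤ)) := [[(-8, 47), (-19, 55), (-7, 41), (7, 39), (6, 36), (16, 14), (14, 12), (7, 3), (6, 7), (8, 5), (4, -2), (3, -1), (5, 1), (4, 0), (2, 0), (3, -1), (5, 1), (0, -2), (3, -1), (0, 0), (2, -2), (0, 0), (0, -2), (0, 0), (-2, -2), (0, 0), (0, 0), (0, 0)],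
  [(116, -26), (145, -2), (104, -18), (86, -53), (87, -45), (18, -48), (20, -46), (0, -20), (6, -17), (2, -21), (-8, -8), (-9, -3), (1, -17), (-4, -8), (-4, -8), (-5, -5), (-3, -9), (-2, 0), (-5, -5), (0, 0), (-6, -2), (-2, 2), (-4, 2), (0, 0), (-2, 2), (0, 4), (0, 0), (0, 0)],
  [(56, 135), (33, 176), (40, 129), (82, 94), (76, 98), (64, 14), (62, 12), (25, -5), (28, 3), (25, 0), (8, -10), (5, -9), (21, -3), (10, -8), (10, -8), (3, -9), (13, -5), (0, -2), (3, -7), (0, 0), (0, -8), (-2, -2), (-2, -4), (0, 0), (-2, -2), (0, 0), (-4, 0), (0, 0)],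
  [(-22, -75), (-3, -93), (-13, -64), (-37, -51), (-31, -53), (-30, -10), (-31, -11), (-12, -2), (-10, -10), (-13, -3), (-4, 4), (-2, 4), (-10, 0), (-6, 4), (-6, 2), (-4, 4), (-8, 0), (0, 0), (-4, 4), (0, 0), (-2, 6), (2, 2), (2, 2), (0, 0), (2, 2), (2, -2), (2, 2), (-2, -2)],
  [(1, 0), (0, 0), (0, 0), (0, 0), (0, 0), (0, 0), (0, 0), (0, 0), (0, 0), (0, 0), (0, 0), (0, 0), (0, 0), (0, 0), (0, 0), (0, 0), (0, 0), (0, 0), (0, 0), (0, 0), (0, 0), (0, 0), (0, 0), (0, 0), (0, 0), (0, 0), (0, 0), (0, 0)],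
  [(14, -183), (61, -220), (25, -167), (-38, -153), (-30, -153), (-64, -52), (-62, -49), (-32, -8), (-29, -18), (-30, -13), (-16, 8), (-9, 9), (-26, -8), (-14, 2), (-14, 4), (-9, 7), (-16, 0), (-2, 4), (-8, 6), (0, 0), (-4, 8), (2, 2), (0, 6), (0, 0), (2, 4), (2, 0), (2, 0), (0, 2)],
  [(129, -116), (184, -111), (126, -98), (73, -131), (78, -127), (-10, -78), (-12, -75), (-17, -25), (-7, -30), (-11, -27), (-16, -4), (-10, 0), (-14, -22), (-11, -9), (-12, -6), (-11, -1), (-9, -11), (-4, 2), (-9, -1), (0, 0), (-8, 2), (0, 2), (-4, 4), (0, 0), (-2, 4), (2, 0), (0, 2), (0, 2)],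
  [(-44, -65), (-37, -89), (-37, -60), (-54, -39), (-51, -42), (-34, 0), (-34, 0), (-12, 5), (-11, -1), (-13, 3), (-3, 7), (1, 5), (-11, 5), (-4, 4), (-3, 5), (-2, 4), (-5, 3), (0, 2), (-2, 4), (0, 0), (0, 4), (2, 0), (2, 2), (0, 0), (2, 2), (2, -2), (0, 0), (0, 0)],
  [(0, 0), (0, 0), (0, 0), (0, 0), (1, 0), (0, 0), (0, 0), (0, 0), (0, 0), (0, 0), (0, 0), (0, 0), (0, 0), (0, 0), (0, 0), (0, 0), (0, 0), (0, 0), (0, 0), (0, 0), (0, 0), (0, 0), (0, 0), (0, 0), (0, 0), (0, 0), (0, 0), (0, 0)],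
  [(-32, -140), (-3, -176), (-17, -127), (-64, -104), (-56, -108), (-58, -23), (-58, -24), (-25, 0), (-24, -10), (-24, -3), (-9, 9), (-4, 8), (-21, -1), (-11, 5), (-11, 5), (-6, 8), (-12, 2), (0, 2), (-5, 7), (0, 0), (-2, 8), (2, 2), (2, 4), (0, 0), (2, 2), (2, -2), (2, 2), (0, 0)],
  [(72, -65), (104, -61), (73, -54), (42, -73), (46, -71), (-5, -43), (-6, -43), (-10, -15), (-6, -17), (-7, -15), (-9, -3), (-7, 1), (-7, -14), (-6, -4), (-8, -4), (-6, 0), (-6, -5), (-2, 0), (-5, 0), (0, 0), (-4, 2), (0, 2), (-2, 2), (0, 0), (-1, 1), (1, 1), (1, 1), (-1, 1)],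
  [(106, -3), (131, 21), (101, 1), (87, -33), (86, -30), (26, -42), (23, -39), (1, -18), (6, -17), (6, -18), (-6, -9), (-6, -5), (2, -16), (-2, -8), (-4, -7), (-4, -4), (-1, -9), (-3, -1), (-3, -4), (0, 0), (-4, -2), (-1, 1), (-4, 0), (0, 0), (-3, 1), (-1, 1), (1, 1), (-1, 1)],
  [(-7, -21), (-3, -30), (-1, -21), (-10, -17), (-10, -20), (-9, -5), (-11, -4), (-6, 1), (-6, -1), (-4, 1), (-2, 2), (1, 1), (-5, 0), (-1, 0), (-2, 2), (-1, 2), (-1, 1), (-1, 1), (0, 2), (0, 0), (1, 1), (1, -1), (0, 0), (0, 0), (0, 0), (0, -2), (0, 0), (0, 2)],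
  [(34, -155), (80, -182), (43, -143), (-15, -137), (-9, -138), (-49, -53), (-49, -50), (-27, -10), (-22, -18), (-23, -15), (-15, 5), (-8, 7), (-23, -10), (-12, 0), (-13, 3), (-8, 5), (-13, -2), (-3, 3), (-7, 4), (0, 0), (-4, 6), (2, 2), (-1, 5), (0, 0), (0, 4), (2, 0), (2, 0), (0, 2)],
  [(-53, -9), (-62, -24), (-47, -10), (-45, 8), (-45, 6), (-16, 17), (-16, 17), (-3, 8), (-6, 4), (-5, 8), (2, 4), (3, 2), (-3, 8), (0, 4), (1, 4), (1, 3), (-1, 4), (1, 1), (1, 3), (0, 0), (2, 2), (1, -1), (2, 0), (0, 0), (2, 0), (0, -2), (0, 0), (0, 0)],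
  [(-6, -83), (13, -101), (-3, -75), (-28, -65), (-24, -64), (-32, -18), (-30, -17), (-14, -2), (-12, -7), (-15, -4), (-7, 5), (-4, 5), (-11, -1), (-6, 2), (-5, 2), (-4, 3), (-7, 1), (0, 2), (-4, 3), (0, 0), (-2, 4), (1, 1), (1, 3), (0, 0), (2, 2), (2, 0), (0, 0), (0, 0)],
  [(60, 10), (70, 25), (53, 12), (52, -9), (50, -6), (19, -20), (18, -19), (3, -10), (7, -8), (4, -9), (-3, -5), (-2, -2), (2, -8), (1, -5), (0, -4), (-2, -4), (1, -4), (-2, 0), (-2, -3), (0, 0), (-2, -2), (0, 0), (-2, 0), (0, 0), (-1, 1), (1, 1), (-1, -1), (-1, 1)],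
  [(82, -88), (123, -85), (83, -73), (44, -93), (50, -91), (-10, -52), (-11, -52), (-13, -18), (-6, -22), (-10, -19), (-11, -2), (-8, 2), (-9, -16), (-8, -5), (-10, -5), (-8, 0), (-8, -7), (-2, 0), (-7, 0), (0, 0), (-6, 3), (0, 3), (-2, 3), (0, 0), (-1, 2), (2, 1), (1, 2), (-1, 0)],
  [(-45, -65), (-38, -89), (-38, -61), (-55, -39), (-53, -42), (-34, 0), (-35, 1), (-12, 5), (-11, -1), (-13, 3), (-3, 7), (1, 5), (-11, 6), (-4, 4), (-3, 6), (-2, 4), (-5, 3), (0, 2), (-2, 4), (0, 0), (0, 4), (2, 0), (2, 2), (0, 0), (2, 2), (2, -2), (0, 0), (0, 0)],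
  [(-10, -21), (-10, -29), (-12, -22), (-16, -15), (-16, -14), (-12, -1), (-10, 0), (-3, 3), (-3, 3), (-4, 1), (-1, 3), (0, 2), (-4, 1), (-2, 1), (0, 2), (0, 1), (-1, 1), (0, 1), (0, 0), (0, 0), (0, 0), (0, 0), (0, 1), (0, 0), (0, 1), (0, 1), (0, -1), (1, 0)],
  [(-70, -68), (-70, -102), (-62, -69), (-77, -36), (-76, -40), (-44, 8), (-43, 10), (-14, 11), (-17, 5), (-15, 7), (-3, 10), (2, 6), (-13, 10), (-4, 6), (-2, 8), (0, 6), (-5, 5), (0, 3), (0, 5), (0, 0), (2, 4), (2, -1), (2, 2), (0, 0), (2, 2), (0, -2), (1, -1), (1, 1)],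
  [(-14, 62), (-33, 67), (-15, 55), (6, 53), (3, 50), (20, 19), (17, 19), (8, 5), (6, 7), (9, 7), (5, -1), (6, -3), (7, 4), (5, -1), (5, 0), (3, -1), (6, 1), (0, 0), (4, -1), (0, 0), (3, -3), (0, -2), (0, -3), (0, 0), (-1, -2), (-1, -2), (-1, 0), (0, 1)],
  [(-23, 34), (-35, 38), (-24, 32), (-9, 35), (-9, 35), (8, 18), (8, 16), (6, 4), (5, 6), (4, 6), (4, 0), (3, 0), (5, 4), (3, 1), (3, 0), (2, -1), (3, 2), (1, -1), (2, 0), (0, 0), (1, -1), (0, 0), (1, -1), (0, 0), (0, -1), (1, 0), (-1, 0), (0, -1)],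
  [(4, 16), (-3, 20), (-1, 15), (6, 13), (3, 15), (5, 3), (7, 5), (4, 1), (4, 1), (3, -1), (1, 0), (1, -2), (3, 3), (1, -1), (4, -1), (1, -1), (1, -2), (1, 1), (0, -2), (1, 0), (-1, -2), (-1, -1), (-1, 0), (0, 0), (0, 1), (-1, 0), (-1, 0), (1, 0)],
  [(26, -136), (61, -154), (29, -118), (-18, -115), (-11, -111), (-43, -42), (-41, -40), (-21, -8), (-16, -16), (-20, -12), (-11, 6), (-7, 5), (-17, -7), (-12, 0), (-9, 0), (-8, 4), (-11, -3), (0, 3), (-7, 3), (0, 0), (-5, 5), (0, 2), (0, 5), (0, 0), (2, 3), (2, 0), (0, 2), (1, 0)],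
  [(-39, -3), (-44, -9), (-34, 1), (-32, 10), (-29, 7), (-9, 14), (-9, 11), (0, 5), (0, 3), (-2, 7), (2, 3), (3, 2), (-1, 5), (0, 3), (0, 1), (0, 2), (1, 2), (2, -1), (0, 2), (0, 0), (0, 2), (1, 0), (2, 0), (0, 0), (1, -1), (2, -2), (-1, 2), (0, -1)],
  [(-28, -69), (-12, -90), (-15, -63), (-38, -48), (-33, -53), (-31, -9), (-30, -9), (-14, 1), (-15, -4), (-14, 0), (-5, 5), (-2, 6), (-11, 0), (-4, 4), (-6, 3), (-2, 5), (-7, 3), (0, 0), (-2, 4), (0, 0), (0, 5), (2, 1), (1, 2), (0, 0), (1, 0), (1, -1), (2, 0), (-1, 1)],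
  [(-57, -119), (-41, -159), (-48, -114), (-81, -81), (-76, -86), (-59, -9), (-57, -8), (-22, 7), (-22, 2), (-22, 3), (-8, 11), (-1, 10), (-21, 5), (-8, 7), (-7, 9), (-2, 7), (-9, 5), (-1, 3), (-2, 5), (0, 0), (0, 6), (3, 1), (2, 4), (0, -1), (1, 3), (2, 0), (2, -1), (1, 1)]]
def hAL : List (List (ℤ × ℤ)) := [[(0, 0), (0, 0), (0, 0), (0, 0), (0, 0), (0, 0), (0, 0), (0, 0), (0, 0), (0, 0), (0, 0), (0, 0), (0, 0), (0, 0), (0, 0), (0, 0), (0, 0), (0, 0), (0, 0), (0, 0), (0, 0), (0, 0), (0, 0), (0, 0), (0, 0), (0, 0), (0, 0), (0, 0)],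
  [(0, 0), (0, 0), (0, 0), (0, 0), (0, 0), (0, 0), (0, 0), (0, 0), (0, 0), (0, 0), (0, 0), (0, 0), (0, 0), (0, 0), (0, 0), (0, 0), (0, 0), (0, 0), (0, 0), (0, 0), (0, 0), (0, 0), (0, 0), (0, 0), (0, 0), (0, 0), (0, 0), (0, 0)],
  [(0, 0), (0, 0), (0, 0), (0, 0), (0, 0), (0, 0), (0, 0), (0, 0), (0, 0), (0, 0), (0, 0), (0, 0), (0, 0), (0, 0), (0, 0), (0, 0), (0, 0), (0, 0), (0, 0), (0, 0), (0, 0), (0, 0), (0, 0), (0, 0), (0, 0), (0, 0), (0, 0), (0, 0)],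
  [(1, 0), (1, 0), (1, 0), (1, 0), (0, 0), (0, 0), (0, 0), (0, 0), (0, 0), (0, 0), (0, 0), (0, 0), (0, 0), (0, 0), (0, 0), (0, 0), (0, 0), (0, 0), (0, 0), (0, 0), (0, 0), (0, 0), (0, 0), (0, 0), (0, 0), (0, 0), (0, 0), (0, 0)],
  [(0, 0), (0, 0), (0, 0), (0, 0), (0, 0), (0, 0), (0, 0), (0, 0), (0, 0), (0, 0), (0, 0), (0, 0), (0, 0), (0, 0), (0, 0), (0, 0), (0, 0), (0, 0), (0, 0), (0, 0), (0, 0), (0, 0), (0, 0), (0, 0), (0, 0), (0, 0), (0, 0), (0, 0)],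
  [(0, 0), (0, 0), (0, 0), (0, 0), (0, 0), (0, 0), (0, 0), (0, 0), (0, 0), (0, 0), (0, 0), (0, 0), (0, 0), (0, 0), (0, 0), (0, 0), (0, 0), (0, 0), (0, 0), (0, 0), (0, 0), (0, 0), (0, 0), (0, 0), (0, 0), (0, 0), (0, 0), (0, 0)],
  [(1, 0), (0, 0), (1, 0), (0, 0), (0, 0), (1, 0), (1, 0), (0, 0), (0, 0), (0, 0), (0, 0), (0, 0), (0, 0), (0, 0), (0, 0), (0, 0), (0, 0), (0, 0), (0, 0), (0, 0), (0, 0), (0, 0), (0, 0), (0, 0), (0, 0), (0, 0), (0, 0), (0, 0)],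
  [(1, 0), (0, 0), (1, 0), (0, 0), (1, 0), (0, 0), (0, 0), (1, 0), (0, 0), (0, 0), (0, 0), (0, 0), (0, 0), (0, 0), (0, 0), (0, 0), (0, 0), (0, 0), (0, 0), (0, 0), (0, 0), (0, 0), (0, 0), (0, 0), (0, 0), (0, 0), (0, 0), (0, 0)],
  [(0, 0), (0, 0), (0, 0), (0, 0), (0, 0), (0, 0), (0, 0), (0, 0), (0, 0), (0, 0), (0, 0), (0, 0), (0, 0), (0, 0), (0, 0), (0, 0), (0, 0), (0, 0), (0, 0), (0, 0), (0, 0), (0, 0), (0, 0), (0, 0), (0, 0), (0, 0), (0, 0), (0, 0)],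
  [(0, 0), (1, 0), (1, 0), (0, 0), (0, 0), (0, 0), (0, 0), (0, 0), (1, 0), (1, 0), (0, 0), (0, 0), (0, 0), (0, 0), (0, 0), (0, 0), (0, 0), (0, 0), (0, 0), (0, 0), (0, 0), (0, 0), (0, 0), (0, 0), (0, 0), (0, 0), (0, 0), (0, 0)],
  [(1, 0), (1, 0), (0, 0), (0, 0), (1, 0), (1, 0), (0, 0), (0, 0), (1, 0), (0, 0), (1, 0), (0, 0), (0, 0), (0, 0), (0, 0), (0, 0), (0, 0), (0, 0), (0, 0), (0, 0), (0, 0), (0, 0), (0, 0), (0, 0), (0, 0), (0, 0), (0, 0), (0, 0)],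
  [(1, 0), (0, 0), (1, 0), (0, 0), (1, 0), (1, 0), (0, 0), (0, 0), (1, 0), (0, 0), (0, 0), (1, 0), (0, 0), (0, 0), (0, 0), (0, 0), (0, 0), (0, 0), (0, 0), (0, 0), (0, 0), (0, 0), (0, 0), (0, 0), (0, 0), (0, 0), (0, 0), (0, 0)],
  [(0, 0), (0, 0), (0, 0), (0, 0), (0, 0), (0, 0), (0, 0), (0, 0), (0, 0), (0, 0), (0, 0), (0, 0), (0, 0), (0, 0), (0, 0), (0, 0), (0, 0), (0, 0), (0, 0), (0, 0), (0, 0), (0, 0), (0, 0), (0, 0), (0, 0), (0, 0), (0, 0), (0, 0)],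
  [(1, 0), (0, 0), (1, 0), (0, 0), (0, 0), (0, 0), (0, 0), (0, 0), (0, 0), (0, 0), (0, 0), (0, 0), (1, 0), (1, 0), (0, 0), (0, 0), (0, 0), (0, 0), (0, 0), (0, 0), (0, 0), (0, 0), (0, 0), (0, 0), (0, 0), (0, 0), (0, 0), (0, 0)],
  [(0, 0), (1, 0), (1, 0), (0, 0), (1, 0), (1, 0), (0, 0), (0, 0), (0, 0), (0, 0), (0, 0), (0, 0), (1, 0), (0, 0), (1, 0), (0, 0), (0, 0), (0, 0), (0, 0), (0, 0), (0, 0), (0, 0), (0, 0), (0, 0), (0, 0), (0, 0), (0, 0), (0, 0)],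
  [(1, 0), (1, 0), (0, 0), (0, 0), (1, 0), (1, 0), (0, 0), (0, 0), (0, 0), (0, 0), (0, 0), (0, 0), (1, 0), (0, 0), (0, 0), (1, 0), (0, 0), (0, 0), (0, 0), (0, 0), (0, 0), (0, 0), (0, 0), (0, 0), (0, 0), (0, 0), (0, 0), (0, 0)],
  [(0, 0), (0, 0), (0, 0), (0, 0), (0, 0), (0, 0), (0, 0), (0, 0), (0, 0), (0, 0), (0, 0), (0, 0), (0, 0), (0, 0), (0, 0), (0, 0), (0, 0), (0, 0), (0, 0), (0, 0), (0, 0), (0, 0), (0, 0), (0, 0), (0, 0), (0, 0), (0, 0), (0, 0)],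
  [(1, 0), (0, 0), (1, 0), (0, 0), (1, 0), (1, 0), (0, 0), (0, 0), (0, 0), (0, 0), (0, 0), (0, 0), (0, 0), (0, 0), (0, 0), (0, 0), (1, 0), (1, 0), (0, 0), (0, 0), (0, 0), (0, 0), (0, 0), (0, 0), (0, 0), (0, 0), (0, 0), (0, 0)],
  [(1, 0), (1, 0), (0, 0), (0, 0), (0, 0), (0, 0), (0, 0), (0, 0), (0, 0), (0, 0), (0, 0), (0, 0), (0, 0), (0, 0), (0, 0), (0, 0), (1, 0), (0, 0), (1, 0), (0, 0), (0, 0), (0, 0), (0, 0), (0, 0), (0, 0), (0, 0), (0, 0), (0, 0)],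
  [(0, 0), (1, 0), (1, 0), (0, 0), (1, 0), (1, 0), (0, 0), (0, 0), (0, 0), (0, 0), (0, 0), (0, 0), (0, 0), (0, 0), (0, 0), (0, 0), (1, 0), (0, 0), (0, 0), (1, 0), (0, 0), (0, 0), (0, 0), (0, 0), (0, 0), (0, 0), (0, 0), (0, 0)],
  [(0, 0), (0, 0), (0, 0), (0, 0), (0, 0), (0, 0), (0, 0), (0, 0), (0, 0), (0, 0), (0, 0), (0, 0), (0, 0), (0, 0), (0, 0), (0, 0), (0, 0), (0, 0), (0, 0), (0, 0), (0, 0), (0, 0), (0, 0), (0, 0), (0, 0), (0, 0), (0, 0), (0, 0)],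
  [(1, 0), (1, 0), (0, 0), (0, 0), (1, 0), (1, 0), (0, 0), (0, 0), (0, 0), (0, 0), (0, 0), (0, 0), (0, 0), (0, 0), (0, 0), (0, 0), (0, 0), (0, 0), (0, 0), (0, 0), (1, 0), (1, 0), (0, 0), (0, 0), (0, 0), (0, 0), (0, 0), (0, 0)],
  [(0, 0), (0, 0), (0, 0), (0, 0), (1, 0), (1, 0), (0, 0), (0, 0), (0, 0), (0, 0), (0, 0), (0, 0), (0, 0), (0, 0), (0, 0), (0, 0), (0, 0), (0, 0), (0, 0), (0, 0), (1, 0), (0, 0), (1, 0), (0, 0), (0, 0), (0, 0), (0, 0), (0, 0)],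
  [(1, 0), (1, 0), (0, 0), (0, 0), (0, 0), (0, 0), (0, 0), (0, 0), (0, 0), (0, 0), (0, 0), (0, 0), (0, 0), (0, 0), (0, 0), (0, 0), (0, 0), (0, 0), (0, 0), (0, 0), (1, 0), (0, 0), (0, 0), (1, 0), (0, 0), (0, 0), (0, 0), (0, 0)],
  [(1, 0), (0, 0), (0, 0), (0, 0), (1, 0), (0, 0), (0, 0), (0, 0), (1, 0), (0, 0), (0, 0), (0, 0), (1, 0), (0, 0), (0, 0), (0, 0), (1, 0), (0, 0), (0, 0), (0, 0), (1, 0), (0, 0), (0, 0), (0, 0), (1, 0), (0, 0), (0, 0), (0, 0)],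
  [(1, 0), (1, 0), (1, 0), (0, 0), (0, 0), (1, 0), (0, 0), (0, 0), (1, 0), (0, 0), (0, 0), (0, 0), (1, 0), (0, 0), (0, 0), (0, 0), (1, 0), (0, 0), (0, 0), (0, 0), (1, 0), (0, 0), (0, 0), (0, 0), (0, 0), (1, 0), (0, 0), (0, 0)],
  [(1, 0), (1, 0), (1, 0), (0, 0), (1, 0), (0, 0), (0, 0), (0, 0), (1, 0), (0, 0), (0, 0), (0, 0), (1, 0), (0, 0), (0, 0), (0, 0), (1, 0), (0, 0), (0, 0), (0, 0), (1, 0), (0, 0), (0, 0), (0, 0), (0, 0), (0, 0), (1, 0), (0, 0)],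
  [(1, 0), (0, 0), (0, 0), (0, 0), (0, 0), (1, 0), (0, 0), (0, 0), (1, 0), (0, 0), (0, 0), (0, 0), (1, 0), (0, 0), (0, 0), (0, 0), (1, 0), (0, 0), (0, 0), (0, 0), (1, 0), (0, 0), (0, 0), (0, 0), (0, 0), (0, 0), (0, 0), (1, 0)]]
def hBL : List (List (ℤ × ℤ)) := [[(0, 0), (0, 0), (0, 0), (0, 0), (0, 0), (0, 0), (0, 0), (0, 0), (0, 0), (0, 0), (0, 0), (0, 0), (0, 0), (0, 0), (0, 0), (0, 0), (0, 0), (0, 0), (0, 0), (0, 0), (0, 0), (0, 0), (0, 0), (0, 0), (0, 0), (0, 0), (0, 0), (0, 0)],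
  [(0, 0), (0, 0), (0, 0), (0, 0), (0, 0), (0, 0), (0, 0), (0, 0), (0, 0), (0, 0), (0, 0), (0, 0), (0, 0), (0, 0), (0, 0), (0, 0), (0, 0), (0, 0), (0, 0), (0, 0), (0, 0), (0, 0), (0, 0), (0, 0), (0, 0), (0, 0), (0, 0), (0, 0)],
  [(0, 0), (0, 0), (0, 0), (0, 0), (0, 0), (0, 0), (0, 0), (0, 0), (0, 0), (0, 0), (0, 0), (0, 0), (0, 0), (0, 0), (0, 0), (0, 0), (0, 0), (0, 0), (0, 0), (0, 0), (0, 0), (0, 0), (0, 0), (0, 0), (0, 0), (0, 0), (0, 0), (0, 0)],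
  [(1, 0), (1, 0), (0, 1), (0, 1), (1, 1), (1, 1), (1, 1), (0, 0), (0, 0), (1, 1), (0, 0), (0, 0), (0, 0), (0, 0), (0, 0), (1, 1), (0, 0), (0, 0), (0, 0), (1, 1), (0, 0), (0, 0), (1, 1), (0, 0), (1, 1), (0, 0), (0, 0), (0, 0)],
  [(0, 0), (0, 0), (0, 0), (0, 0), (0, 0), (0, 0), (0, 0), (0, 0), (0, 0), (0, 0), (0, 0), (0, 0), (0, 0), (0, 0), (0, 0), (0, 0), (0, 0), (0, 0), (0, 0), (0, 0), (0, 0), (0, 0), (0, 0), (0, 0), (0, 0), (0, 0), (0, 0), (0, 0)],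
  [(0, 0), (0, 0), (0, 0), (0, 0), (0, 0), (0, 0), (0, 0), (0, 0), (0, 0), (0, 0), (0, 0), (0, 0), (0, 0), (0, 0), (0, 0), (0, 0), (0, 0), (0, 0), (0, 0), (0, 0), (0, 0), (0, 0), (0, 0), (0, 0), (0, 0), (0, 0), (0, 0), (0, 0)],
  [(1, 0), (0, 0), (0, 1), (0, 0), (0, 0), (1, 0), (0, 1), (0, 0), (0, 0), (1, 1), (0, 0), (0, 0), (1, 1), (0, 0), (0, 0), (1, 1), (0, 0), (0, 0), (0, 0), (1, 1), (0, 0), (0, 0), (1, 1), (0, 0), (1, 1), (0, 0), (0, 0), (0, 0)],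
  [(1, 0), (0, 0), (1, 0), (0, 0), (1, 0), (1, 1), (0, 0), (1, 0), (1, 1), (0, 0), (1, 1), (0, 0), (1, 1), (0, 0), (0, 0), (0, 0), (0, 0), (0, 0), (0, 0), (0, 0), (1, 1), (1, 1), (0, 0), (0, 0), (0, 0), (0, 0), (0, 0), (0, 0)],
  [(0, 0), (0, 0), (0, 0), (0, 0), (0, 0), (0, 0), (0, 0), (0, 0), (0, 0), (0, 0), (0, 0), (0, 0), (0, 0), (0, 0), (0, 0), (0, 0), (0, 0), (0, 0), (0, 0), (0, 0), (0, 0), (0, 0), (0, 0), (0, 0), (0, 0), (0, 0), (0, 0), (0, 0)],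
  [(1, 1), (1, 0), (1, 0), (1, 1), (1, 1), (0, 0), (0, 0), (0, 0), (1, 0), (0, 1), (0, 0), (1, 1), (1, 1), (1, 1), (1, 1), (0, 0), (0, 0), (1, 1), (1, 1), (1, 1), (1, 1), (0, 0), (0, 0), (0, 0), (0, 0), (0, 0), (0, 0), (0, 0)],
  [(1, 0), (1, 0), (0, 0), (1, 1), (1, 0), (1, 0), (0, 0), (0, 0), (1, 0), (0, 0), (1, 0), (1, 1), (0, 0), (1, 1), (1, 1), (1, 1), (1, 1), (1, 1), (1, 1), (0, 0), (1, 1), (0, 0), (1, 1), (0, 0), (1, 1), (0, 0), (0, 0), (0, 0)],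
  [(0, 1), (1, 1), (0, 1), (1, 1), (0, 1), (1, 0), (0, 0), (1, 1), (1, 0), (1, 1), (1, 1), (0, 1), (0, 0), (0, 0), (1, 1), (0, 0), (1, 1), (1, 1), (1, 1), (0, 0), (0, 0), (0, 0), (0, 0), (0, 0), (0, 0), (0, 0), (0, 0), (0, 0)],
  [(0, 0), (0, 0), (0, 0), (0, 0), (0, 0), (0, 0), (0, 0), (0, 0), (0, 0), (0, 0), (0, 0), (0, 0), (0, 0), (0, 0), (0, 0), (0, 0), (0, 0), (0, 0), (0, 0), (0, 0), (0, 0), (0, 0), (0, 0), (0, 0), (0, 0), (0, 0), (0, 0), (0, 0)],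
  [(1, 0), (1, 1), (1, 0), (0, 0), (1, 1), (0, 0), (0, 0), (0, 0), (0, 0), (0, 0), (0, 0), (0, 0), (0, 1), (0, 1), (0, 0), (0, 0), (0, 0), (0, 0), (0, 0), (0, 0), (0, 0), (0, 0), (0, 0), (0, 0), (0, 0), (0, 0), (0, 0), (0, 0)],
  [(1, 1), (1, 0), (0, 1), (0, 0), (1, 0), (1, 0), (1, 1), (0, 0), (0, 0), (1, 1), (0, 0), (0, 0), (0, 1), (0, 0), (0, 1), (1, 1), (0, 0), (0, 0), (0, 0), (1, 1), (0, 0), (0, 0), (1, 1), (0, 0), (1, 1), (0, 0), (0, 0), (0, 0)],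
  [(0, 1), (1, 0), (1, 1), (0, 0), (0, 1), (1, 0), (1, 1), (1, 1), (0, 0), (1, 1), (1, 1), (0, 0), (0, 1), (0, 0), (1, 1), (0, 1), (1, 1), (1, 1), (0, 0), (0, 0), (0, 0), (0, 0), (0, 0), (0, 0), (0, 0), (0, 0), (0, 0), (0, 0)],
  [(0, 0), (0, 0), (0, 0), (0, 0), (0, 0), (0, 0), (0, 0), (0, 0), (0, 0), (0, 0), (0, 0), (0, 0), (0, 0), (0, 0), (0, 0), (0, 0), (0, 0), (0, 0), (0, 0), (0, 0), (0, 0), (0, 0), (0, 0), (0, 0), (0, 0), (0, 0), (0, 0), (0, 0)],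
  [(0, 1), (1, 1), (1, 0), (1, 1), (0, 1), (1, 0), (1, 1), (0, 0), (0, 0), (1, 1), (1, 1), (0, 0), (1, 1), (0, 0), (1, 1), (0, 0), (1, 0), (1, 0), (0, 0), (1, 1), (1, 1), (1, 1), (1, 1), (0, 0), (1, 1), (0, 0), (0, 0), (0, 0)],
  [(1, 0), (0, 1), (1, 1), (1, 1), (1, 1), (1, 1), (1, 1), (0, 0), (0, 0), (0, 0), (0, 0), (1, 1), (0, 0), (1, 1), (1, 1), (1, 1), (1, 0), (1, 1), (0, 1), (0, 0), (1, 1), (0, 0), (1, 1), (0, 0), (1, 1), (0, 0), (0, 0), (0, 0)],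
  [(0, 0), (0, 1), (0, 1), (1, 1), (0, 1), (1, 0), (1, 1), (0, 0), (1, 1), (0, 0), (0, 0), (1, 1), (1, 1), (0, 0), (1, 1), (0, 0), (1, 0), (1, 1), (0, 0), (1, 0), (0, 0), (1, 1), (1, 1), (0, 0), (1, 1), (0, 0), (0, 0), (0, 0)],
  [(0, 0), (0, 0), (0, 0), (0, 0), (0, 0), (0, 0), (0, 0), (0, 0), (0, 0), (0, 0), (0, 0), (0, 0), (0, 0), (0, 0), (0, 0), (0, 0), (0, 0), (0, 0), (0, 0), (0, 0), (0, 0), (0, 0), (0, 0), (0, 0), (0, 0), (0, 0), (0, 0), (0, 0)],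
  [(1, 0), (0, 1), (1, 1), (0, 0), (1, 0), (0, 1), (1, 1), (1, 1), (1, 1), (1, 1), (1, 1), (0, 0), (1, 1), (0, 0), (0, 0), (0, 0), (1, 1), (1, 1), (1, 1), (1, 1), (1, 0), (0, 1), (0, 0), (0, 0), (0, 0), (0, 0), (0, 0), (0, 0)],
  [(0, 0), (0, 0), (0, 0), (1, 1), (0, 1), (0, 1), (0, 0), (1, 1), (0, 0), (0, 0), (1, 1), (0, 0), (0, 0), (1, 1), (0, 0), (0, 0), (0, 0), (0, 0), (0, 0), (1, 1), (0, 1), (0, 0), (0, 1), (0, 0), (0, 0), (0, 0), (0, 0), (0, 0)],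
  [(0, 1), (0, 1), (0, 0), (0, 0), (0, 0), (0, 0), (0, 0), (1, 1), (1, 1), (1, 1), (1, 1), (0, 0), (1, 1), (1, 1), (0, 0), (1, 1), (1, 1), (1, 1), (1, 1), (1, 1), (0, 1), (0, 0), (0, 0), (1, 0), (1, 1), (0, 0), (0, 0), (0, 0)],
  [(0, 0), (0, 0), (0, 0), (0, 0), (0, 0), (0, 0), (0, 0), (0, 0), (0, 0), (0, 0), (0, 0), (0, 0), (0, 0), (0, 0), (0, 0), (0, 0), (0, 0), (0, 0), (0, 0), (0, 0), (0, 0), (0, 0), (0, 0), (0, 0), (0, 0), (0, 0), (0, 0), (0, 0)],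
  [(1, 1), (1, 0), (1, 0), (1, 1), (1, 0), (0, 1), (1, 1), (1, 1), (0, 0), (0, 0), (1, 1), (0, 0), (0, 0), (0, 0), (1, 1), (1, 1), (1, 1), (0, 0), (0, 0), (1, 1), (1, 1), (0, 0), (0, 0), (0, 0), (0, 1), (1, 0), (0, 0), (0, 0)],
  [(0, 0), (0, 1), (1, 0), (0, 0), (1, 1), (1, 1), (0, 0), (1, 1), (1, 1), (0, 0), (1, 1), (0, 0), (0, 0), (0, 0), (1, 1), (0, 0), (1, 1), (0, 0), (0, 0), (0, 0), (1, 1), (1, 1), (1, 1), (0, 0), (1, 0), (0, 0), (0, 1), (0, 0)],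
  [(0, 0), (0, 0), (0, 0), (0, 0), (0, 1), (1, 0), (1, 1), (1, 1), (1, 1), (1, 1), (0, 0), (0, 0), (0, 0), (1, 1), (1, 1), (0, 0), (0, 0), (0, 0), (0, 0), (0, 0), (1, 1), (0, 0), (0, 0), (0, 0), (0, 1), (0, 0), (0, 0), (0, 1)]]
def hCL : List (List (ℤ × ℤ)) := [[(0, 1), (3, 1), (0, 2), (1, 2), (2, 0), (0, 2), (3, 0), (0, 3), (3, 3), (2, 0), (3, 0), (0, 1), (3, 3), (2, 3), (0, 2), (0, 3), (1, 3), (3, 0), (0, 3), (0, 0), (2, 2), (1, 2), (0, 0), (3, 0), (3, 0), (1, 0), (0, 3), (0, 1)],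
  [(1, 3), (2, 1), (0, 2), (3, 2), (0, 2), (3, 1), (1, 3), (3, 1), (2, 2), (1, 2), (0, 3), (0, 0), (2, 2), (0, 2), (1, 0), (0, 3), (0, 2), (3, 3), (0, 1), (3, 0), (0, 2), (0, 1), (0, 0), (3, 0), (1, 1), (1, 0), (0, 3), (0, 0)],
  [(1, 3), (1, 1), (2, 1), (3, 0), (1, 3), (2, 2), (1, 0), (2, 3), (1, 1), (1, 2), (3, 1), (0, 3), (3, 3), (1, 0), (2, 1), (0, 0), (3, 1), (0, 3), (2, 2), (3, 0), (3, 1), (0, 2), (2, 0), (0, 0), (2, 0), (1, 0), (0, 3), (0, 0)],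
  [(2, 0), (3, 1), (1, 1), (3, 3), (1, 0), (2, 2), (1, 3), (2, 3), (2, 2), (3, 3), (2, 1), (0, 1), (0, 2), (2, 2), (2, 3), (0, 1), (3, 3), (0, 3), (1, 3), (3, 0), (1, 1), (0, 3), (1, 0), (0, 0), (1, 0), (0, 0), (0, 3), (0, 0)],
  [(1, 3), (0, 0), (0, 2), (0, 2), (2, 2), (0, 3), (1, 2), (2, 2), (1, 1), (3, 1), (3, 0), (0, 3), (2, 2), (1, 1), (1, 2), (0, 1), (1, 1), (2, 3), (3, 3), (3, 0), (1, 1), (0, 3), (3, 0), (0, 0), (1, 1), (1, 0), (0, 0), (0, 1)],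
  [(3, 1), (0, 0), (1, 1), (2, 0), (0, 2), (0, 2), (0, 0), (0, 2), (3, 2), (0, 1), (0, 3), (0, 3), (1, 1), (1, 3), (2, 0), (0, 0), (0, 2), (3, 3), (3, 1), (0, 0), (3, 3), (1, 3), (0, 0), (0, 0), (2, 1), (1, 0), (0, 3), (0, 1)],
  [(1, 3), (0, 2), (0, 0), (1, 1), (0, 0), (2, 2), (0, 0), (0, 2), (0, 2), (3, 1), (1, 3), (0, 0), (0, 1), (1, 2), (2, 3), (0, 3), (3, 3), (3, 3), (0, 0), (0, 0), (1, 3), (1, 3), (0, 0), (0, 0), (2, 1), (1, 0), (0, 3), (0, 1)],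
  [(2, 0), (2, 0), (2, 2), (2, 2), (1, 1), (1, 3), (3, 3), (3, 3), (1, 1), (2, 2), (3, 3), (0, 0), (2, 2), (0, 0), (2, 0), (0, 0), (1, 0), (1, 0), (0, 1), (3, 0), (3, 3), (1, 3), (0, 0), (0, 0), (2, 1), (1, 0), (0, 3), (0, 1)],
  [(0, 0), (1, 3), (3, 3), (2, 2), (1, 1), (0, 2), (3, 1), (0, 2), (0, 0), (3, 3), (3, 3), (0, 0), (0, 2), (1, 3), (3, 3), (0, 0), (2, 2), (2, 0), (0, 0), (0, 0), (0, 3), (1, 2), (1, 0), (3, 0), (2, 1), (1, 0), (0, 3), (0, 1)]]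
def cAL : List (List (ℤ × ℤ)) := [[(1, 1), (1, 1), (1, 1), (1, 1), (0, 0), (1, 1), (0, 1), (0, 1), (1, 0), (0, 0), (1, 0), (1, 1), (1, 1), (0, 0), (1, 1), (1, 1), (0, 0), (0, 0), (0, 0), (0, 0), (0, 1), (1, 1), (0, 0), (1, 0), (1, 1), (0, 0), (0, 0), (0, 0)],
  [(1, 0), (1, 1), (1, 0), (0, 0), (1, 1), (0, 0), (0, 0), (0, 0), (0, 0), (0, 0), (0, 0), (0, 0), (0, 1), (0, 1), (0, 0), (0, 0), (0, 0), (0, 0), (0, 0), (0, 0), (0, 0), (0, 0), (0, 0), (0, 0), (0, 0), (0, 0), (0, 0), (0, 0)],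
  [(0, 0), (1, 1), (0, 1), (0, 1), (1, 1), (1, 1), (0, 1), (0, 1), (0, 0), (1, 1), (0, 0), (0, 0), (1, 1), (0, 0), (0, 0), (0, 0), (1, 1), (1, 1), (1, 1), (1, 1), (0, 1), (1, 0), (0, 0), (0, 0), (0, 0), (0, 0), (0, 0), (0, 0)],
  [(0, 0), (0, 0), (1, 1), (0, 0), (1, 1), (1, 0), (0, 1), (1, 1), (0, 0), (1, 1), (1, 1), (0, 0), (1, 1), (0, 0), (1, 0), (0, 1), (1, 1), (1, 1), (0, 0), (0, 0), (0, 0), (0, 0), (0, 0), (0, 0), (0, 0), (0, 0), (0, 0), (0, 0)],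
  [(0, 0), (1, 0), (0, 0), (0, 1), (1, 1), (0, 1), (1, 0), (0, 0), (0, 0), (0, 0), (0, 0), (0, 0), (1, 1), (0, 0), (0, 0), (0, 0), (0, 0), (0, 0), (0, 0), (0, 0), (0, 0), (0, 0), (0, 0), (0, 0), (0, 0), (0, 0), (0, 0), (0, 0)],
  [(1, 1), (0, 0), (1, 1), (1, 1), (0, 0), (0, 0), (1, 1), (1, 1), (0, 1), (0, 0), (0, 1), (1, 1), (0, 1), (0, 1), (0, 0), (0, 0), (0, 0), (1, 1), (1, 1), (0, 0), (1, 1), (1, 0), (0, 0), (1, 0), (1, 0), (0, 0), (0, 1), (0, 0)],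
  [(1, 1), (0, 0), (1, 0), (1, 0), (1, 1), (0, 0), (0, 0), (0, 0), (1, 0), (1, 1), (1, 0), (1, 1), (0, 0), (0, 0), (1, 1), (1, 1), (1, 1), (1, 1), (1, 1), (1, 1), (0, 0), (0, 1), (0, 0), (1, 0), (1, 1), (0, 0), (0, 0), (0, 0)],
  [(0, 1), (1, 1), (1, 0), (1, 1), (1, 1), (0, 0), (1, 0), (0, 1), (0, 1), (0, 0), (1, 1), (1, 0), (1, 0), (1, 1), (1, 0), (1, 1), (1, 1), (1, 0), (1, 0), (1, 1), (1, 1), (0, 0), (0, 0), (0, 0), (0, 0), (0, 0), (0, 0), (0, 0)],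
  [(0, 1), (1, 0), (1, 1), (1, 1), (0, 1), (0, 1), (1, 0), (1, 0), (1, 1), (0, 0), (0, 0), (0, 0), (0, 0), (1, 1), (1, 0), (1, 0), (1, 0), (0, 1), (0, 1), (0, 1), (0, 0), (0, 0), (0, 0), (0, 0), (0, 1), (0, 0), (0, 1), (0, 0)],
  [(0, 1), (1, 0), (0, 0), (0, 0), (1, 1), (0, 1), (0, 1), (1, 1), (1, 0), (0, 1), (1, 1), (1, 1), (0, 1), (1, 1), (0, 1), (1, 1), (1, 1), (1, 1), (1, 1), (0, 0), (0, 0), (0, 0), (0, 0), (0, 0), (0, 1), (1, 0), (0, 0), (0, 0)]]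
def cBL : List (List (ℤ × ℤ)) := [[(1, 1), (1, 1), (1, 1), (0, 0), (1, 1), (2, 1), (0, 1), (2, 0), (1, 1), (2, 0), (2, 1), (0, 1), (0, 0), (0, 0), (0, 1), (0, 1), (1, 1), (0, 1), (1, 1), (1, 0), (1, 0), (3, 1), (2, 0), (3, 0), (1, 0), (0, 0), (2, 1), (0, 0)],
  [(1, 1), (0, 1), (0, 0), (3, 0), (0, 0), (1, 1), (1, 1), (1, 1), (0, 0), (3, 0), (2, 1), (0, 0), (2, 0), (0, 0), (3, 0), (0, 1), (2, 0), (1, 1), (0, 1), (3, 0), (0, 0), (2, 1), (2, 0), (1, 0), (1, 1), (1, 0), (2, 1), (0, 0)],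
  [(3, 1), (0, 1), (3, 0), (0, 0), (0, 0), (3, 0), (0, 0), (1, 0), (2, 0), (0, 0), (3, 1), (0, 0), (3, 1), (3, 0), (1, 0), (2, 0), (2, 0), (1, 1), (1, 0), (3, 0), (2, 1), (3, 0), (0, 0), (2, 0), (0, 1), (0, 0), (2, 1), (0, 0)],
  [(0, 0), (3, 0), (1, 1), (3, 0), (1, 1), (3, 0), (1, 0), (3, 1), (1, 1), (1, 0), (0, 0), (2, 1), (2, 0), (0, 0), (1, 1), (0, 0), (3, 1), (1, 0), (3, 0), (2, 0), (3, 0), (3, 0), (0, 0), (2, 0), (0, 1), (1, 0), (0, 0), (0, 0)],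
  [(2, 0), (0, 0), (1, 0), (3, 0), (0, 0), (2, 1), (1, 1), (0, 1), (2, 0), (3, 0), (3, 0), (0, 0), (1, 1), (1, 0), (2, 0), (2, 1), (0, 0), (0, 0), (3, 1), (0, 0), (0, 1), (3, 1), (2, 0), (3, 0), (1, 0), (1, 0), (0, 0), (0, 0)],
  [(3, 1), (1, 1), (2, 1), (3, 0), (1, 1), (2, 0), (3, 0), (2, 1), (3, 1), (1, 0), (1, 1), (0, 1), (1, 1), (1, 0), (2, 1), (0, 0), (1, 1), (0, 1), (2, 0), (1, 0), (1, 1), (0, 0), (0, 0), (2, 0), (2, 0), (1, 0), (2, 1), (0, 0)],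
  [(2, 0), (3, 0), (0, 1), (0, 0), (1, 1), (3, 1), (2, 1), (3, 0), (3, 1), (2, 0), (1, 0), (2, 1), (3, 1), (3, 0), (3, 1), (0, 1), (3, 1), (1, 0), (2, 1), (2, 0), (1, 1), (2, 1), (2, 0), (3, 0), (3, 1), (0, 0), (0, 0), (0, 0)]]
def hA (p : RuIdx) : RuVec := famG hAL (nidx p)
def hB (p : RuIdx) : RuVec := famG hBL (nidx p)
def hC (i : Fin 9) : RuVec := famG hCL i.val
def cA (t : Fin 10) : RuVec := famG cAL t.val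
def cB (t : Fin 7) : RuVec := famG cBL t.val
def GA (i : Fin 9) : RuIdx → ZMod 2 := bitZ ([262581449, 111986186, 101345996, 90885264, 174771296, 251662080, 251719680, 252641280, 267386880].getD i.val 0)
def GB (i : Fin 10) : RuIdx → ZMod 2 := bitZ ([10923209, 111986186, 101345996, 174771344, 174771296, 3840, 61440, 983040, 15728640, 251658240].getD i.val 0)
def frA (i : Fin 9) : RuIdx := ofN ([0, 1, 2, 4, 5, 8, 12, 16, 20].getD i.val 0)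
def frB (i : Fin 10) : RuIdx := ofN ([0, 1, 2, 4, 5, 8, 12, 16, 20, 24].getD i.val 0)

/-! ### Gaussian integers modulo powers of `1 + i` -/

def pi : GI := ⟨1, 1⟩
def par (a : ℤ) : ZMod 2 := if a % 2 = 0 then 0 else 1
def phi (z : GI) : ZMod 2 := par (z.re + z.im)
def tau (z : GI) : ZMod 2 := par z.re
def herm (x y : RuVec) : GI := ∑ p, x p * star (y p)
/-- candidate quotient by `pi ^ e`. -/
def qd (e : ℕ) (z : GI) : GI := ⟨(z * (star pi) ^ e).re / 2 ^ e, (z * (star pi) ^ e).im / 2 ^ e⟩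

/-- number of odd coordinates. -/
def wt (s : RuIdx → ZMod 2) : ℕ := (Finset.univ.filter fun p => s p ≠ 0).card

def sA (f : Fin 9 → ZMod 2) (p : RuIdx) : ZMod 2 := ∑ i, GA i p * f i
def sB (f : Fin 10 → ZMod 2) (p : RuIdx) : ZMod 2 := ∑ i, GB i p * f i


end Cfsg.Agent.Lib.Helper11.Ru
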