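import Mathlib
import Cfsg.Prelude.Def_Spor_Ru
import Cfsg.Agent.Lib.Helper11.RuData

set_option autoImplicit false

namespace Cfsg.Agent.Lib.Helper11.Ru

open Cfsg

set_option maxRecDepth 100000
open Cfsg.Spor

theorem tab_ok : ∀ (k : Fin 20) (p : RuIdx), (ruTable.getD k.val 0) p = ∑ j : Fin 28, cofG cTL k.val j.val * b j p := by
  decide +kernel

theorem rj_ok : ∀ (k : Fin 28) (p : RuIdx), ruRj (b k) p = ∑ j : Fin 28, cofG cRjL k.val j.val * b j p := by
  decide +kernel

theorem rk_ok : ∀ (k : Fin 28) (p : RuIdx), ruRk (b k) p = ∑ j : Fin 28, cofG cRkL k.val j.val * b j p := by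
  decide +kernel


end Cfsg.Agent.Lib.Helper11.Ru
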