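import Mathlib
import Cfsg.Prelude.Def_Spor_Ru
import Cfsg.Agent.Lib.Helper11.RuData

set_option autoImplicit false

namespace Cfsg.Agent.Lib.Helper11.Ru

open Cfsg

set_option maxRecDepth 100000
open Cfsg.Spor

theorem sg_ok : ∀ (k : Fin 28) (p : RuIdx), ruSign (b k) p = ∑ j : Fin 28, cofG cSgL k.val j.val * b j p := by
  decide +kernel

theorem sh_ok : ∀ (k : Fin 28) (p : RuIdx), ruShift (b k) p = ∑ j : Fin 28, cofG cShL k.val j.val * b j p := by
  decide +kernel

theorem gram_ok : ∀ i j : Fin 28, herm (b i) (b j) = pi ^ 4 * qd 4 (herm (b i) (b j)) := by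
  decide +kernel

theorem bnorm_ok : ∀ j : Fin 28, ruNorm (b j) % 8 = 0 := by decide +kernel


end Cfsg.Agent.Lib.Helper11.Ru
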