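import Mathlib
import Cfsg.Prelude.Def_Spor_Ru
import Cfsg.Agent.Lib.Helper11.RuData

set_option autoImplicit false

namespace Cfsg.Agent.Lib.Helper11.Ru

open Cfsg

set_option maxRecDepth 100000
open Cfsg.Spor

theorem hA_ok : ∀ (p : RuIdx) (j : Fin 28), herm (b j) (hA p) = pi ^ 1 * qd 1 (herm (b j) (hA p)) := by
  decide +kernel

theorem hB_ok : ∀ (p : RuIdx) (j : Fin 28), herm (b j) (hB p) = pi ^ 2 * qd 2 (herm (b j) (hB p)) := by
  decide +kernel

theorem hC_ok : ∀ (i : Fin 9) (j : Fin 28), herm (b j) (hC i) = pi ^ 4 * qd 4 (herm (b j) (hC i)) := by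
  decide +kernel

theorem cA_ok : ∀ (t) (j : Fin 28), herm (b j) (cA t) = pi ^ 2 * qd 2 (herm (b j) (cA t)) := by
  decide +kernel

theorem cB_ok : ∀ (t) (j : Fin 28), herm (b j) (cB t) = pi ^ 3 * qd 3 (herm (b j) (cB t)) := by
  decide +kernel


end Cfsg.Agent.Lib.Helper11.Ru
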