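import Mathlib
import Cfsg.Prelude.Def_Spor_Ru
import Cfsg.Agent.Lib.Helper11.RuData

set_option autoImplicit false

namespace Cfsg.Agent.Lib.Helper11.Ru

open Cfsg

set_option maxRecDepth 100000
open Cfsg.Spor

theorem hA_form : ∀ p q, phi (hA p q) = (if q = p then 1 else 0) + ∑ i, GA i p * (if q = frA i then 1 else 0) := by
  decide +kernel

theorem hB_form : ∀ p q, phi (hB p q) = (if q = p then 1 else 0) + ∑ i, GB i p * (if q = frB i then 1 else 0) := by
  decide +kernel

theorem small1 : ∀ p : RuIdx, ∃ i, phi (hC i p) ≠ 0 := by decide +kernel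

theorem small2 : ∀ p q : RuIdx, p ≠ q → ∃ i, phi (hC i p) + phi (hC i q) ≠ 0 := by decide +kernel

theorem first_norm : ruNorm (ruTable[0]'(by decide)) = 16 := by decide +kernel


end Cfsg.Agent.Lib.Helper11.Ru
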