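import Mathlib
import Cfsg.Prelude.Def_Spor_Ru
import Cfsg.Agent.Lib.Helper11.RuData

set_option autoImplicit false

namespace Cfsg.Agent.Lib.Helper11.Ru

open Cfsg

set_option maxRecDepth 100000
open Cfsg.Spor

theorem enumA : ∀ f : Fin 9 → ZMod 2, (∀ p, sA f p = 0) ∨ 8 < wt (sA f) ∨
    (wt (sA f) = 8 ∧ ∃ t, (∀ p, sA f p ≠ 0 → phi (cA t p) = 0) ∧ ∑ p, sA f p * tau (cA t p) = 1) := by
  decide +kernel


end Cfsg.Agent.Lib.Helper11.Ru
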